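import Mathlib
import Cfsg.Agent.Oc.Kit
import Cfsg.Agent.C3.Off

/-! Essential subgroups of a finite `p`-group: chains of invariant sets and offenders. -/

set_option autoImplicit false
set_option linter.unusedSectionVars false

namespace Cfsg.Agent.UF

open Subgroup Cfsg.FusionSystem Cfsg.Agent.Fus Cfsg.Agent.Oc
open scoped commutatorElement

universe u

variable {Ω : Type u} [Group Ω] {E : Subgroup Ω} {p : ℕ}

/-- The Frattini subgroup. -/
abbrev Fr (p : ℕ) (E : Subgroup Ω) : Subgroup Ω := ⁅E, E⁆ ⊔ powerClosure p 1 E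

theorem pow_Fr {x : Ω} (hx : x ∈ E) : x ^ p ∈ Fr p E :=
  mem_sup_right (subset_closure ⟨x, hx, by simp⟩)

theorem cm_Fr {x y : Ω} (hx : x ∈ E) (hy : y ∈ E) : ⁅x, y⁆ ∈ Fr p E :=
  mem_sup_left (commutator_mem_commutator hx hy)

theorem Fr_le_of {M : Subgroup Ω} (h1 : ∀ x ∈ E, ∀ y ∈ E, ⁅x, y⁆ ∈ M) (h2 : ∀ x ∈ E, x ^ p ∈ M) :
    Fr p E ≤ M :=
  sup_le (commutator_le.2 h1) ((closure_le _).2 (by rintro _ ⟨x, hx, rfl⟩; simpa using h2 x hx))

theorem Fr_le : Fr p E ≤ E := Fr_le_of (fun _ hx _ hy => cm_mem hx hy) fun _ hx => pow_mem hx _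

theorem invA_Fr (A : Subgroup (MulAut E)) : InvA A (Fr p E) :=
  ((invA_top A).commutator (invA_top A)).sup ((invA_top A).powerClosure p 1)

variable {A : Subgroup (MulAut E)} {X Y D : Set Ω}

theorem iv_cl (h : Iv A X) : InvA A (closure X ⊔ Fr p E) :=
  (invA_closure ((closure_le _).2 h.le) fun α hα x hx => subset_closure (h.mp α hα x hx)).sup (invA_Fr A)

/-- `E` is essential in some saturated fusion system. -/
def Es (p : ℕ) (E : Subgroup Ω) : Prop :=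
  ∃ F : FusionSystem (⊤ : Subgroup Ω), F.IsSaturated p ∧ F.IsEssential p E

variable [Finite Ω] [Fact p.Prime]

theorem step_cl {g : Ω} (hg : g ∈ normalizer (E : Set Ω)) {N : Subgroup Ω} (hN : InvA (⊤ : Subgroup (MulAut E)) N) (hΦ : Fr p E ≤ N)
    (hX : ∀ x ∈ X, x ∈ E) (h : ∀ x ∈ X, ⁅g, x⁆ ∈ N) : ∀ x ∈ closure X ⊔ Fr p E, x⁻¹ * (g * x * g⁻¹) ∈ N := by
  have cj : ∀ x ∈ E, ∀ y ∈ N, x * y * x⁻¹ ∈ N := fun x hx y hy =>
    totA_cAut (le_normalizer hx) (hN.le hy) ▸ hN.mem (mem_top _) hy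
  let M : Subgroup Ω :=
    { carrier := {x | x ∈ E ∧ x⁻¹ * (g * x * g⁻¹) ∈ N}
      one_mem' := ⟨one_mem _, by simp⟩
      mul_mem' := fun {x y} hx hy => ⟨mul_mem hx.1 hy.1, by
        have := mul_mem (cj _ (inv_mem hy.1) _ hx.2) hy.2
        convert this using 1; group⟩
      inv_mem' := fun {x} hx => ⟨inv_mem hx.1, by
        have := inv_mem (cj _ hx.1 _ hx.2)
        convert this using 1; group⟩ }
  have : closure X ⊔ Fr p E ≤ M := sup_le ((closure_le _).2 fun x hx => ⟨hX x hx, by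
    have := cj _ (inv_mem (hX x hx)) _ (h x hx)
    convert this using 1; rw [commutatorElement_def]; group⟩) fun x hx => ⟨Fr_le hx,
      hΦ (mul_mem (inv_mem hx) (totA_cAut hg (Fr_le hx) ▸ (invA_Fr ⊤).mem (mem_top _) hx))⟩
  exact fun x hx => (this hx).2

namespace Es

variable (hΩ : IsPGroup p Ω) (h : Es p E)
include hΩ h

theorem exists_notMem : ∃ g, g ∉ E ∧ ∀ x ∈ E, ⁅g, x⁆ ∈ E := by
  obtain ⟨F, h1, h2⟩ := h
  obtain ⟨g, hg, h3⟩ := h2.exists_notMem h1 (hΩ.to_subgroup _)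
  exact ⟨g, h3, fun x hx => mul_mem (conj_mem_of_mem_normalizerIn hg hx) (inv_mem hx)⟩

theorem ch3 (hX : Iv (⊤ : Subgroup (MulAut E)) X) (hY : Iv (⊤ : Subgroup (MulAut E)) Y)
    (hD : Iv (⊤ : Subgroup (MulAut E)) D) {g : Ω} (h0 : ∀ x ∈ E, ⁅g, x⁆ ∈ X) (h1 : ∀ x ∈ X, ⁅g, x⁆ ∈ Y)
    (h2 : ∀ x ∈ Y, ⁅g, x⁆ ∈ D) (h3 : ∀ x ∈ D, ⁅g, x⁆ ∈ Fr p E) : g ∈ E := by
  obtain ⟨F, -, hF⟩ := h
  have hg := norm_of_cm fun x hx => hX.le _ (h0 x hx)
  have i2 : Iv (⊤ : Subgroup (MulAut E)) (Y ∪ D) := ⟨fun x hx => hx.elim (hY.le x) (hD.le x),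
    fun α hα x hx => hx.imp (hY.mp α hα x) (hD.mp α hα x)⟩
  have i1 : Iv (⊤ : Subgroup (MulAut E)) (X ∪ (Y ∪ D)) := ⟨fun x hx => hx.elim (hX.le x) (i2.le x),
    fun α hα x hx => hx.imp (hX.mp α hα x) (i2.mp α hα x)⟩
  let C : ℕ → Subgroup Ω := fun i => if i = 0 then E else if i = 1 then closure (X ∪ (Y ∪ D)) ⊔ Fr p E else
    if i = 2 then closure (Y ∪ D) ⊔ Fr p E else if i = 3 then closure D ⊔ Fr p E else Fr p E
  have s : ∀ {Z : Set Ω} {x : Ω}, x ∈ Z → x ∈ closure Z ⊔ Fr p E := fun hx => mem_sup_left (subset_closure hx)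
  refine hF.mem_of_chain (hΩ.to_subgroup _) C 4 rfl le_rfl (fun i hi => ?_) (fun i hi => ?_)
    ⟨mem_top g, hg⟩ fun i hi => ?_
  · interval_cases i
    exacts [(iv_cl i1).le, sup_le_sup_right (Subgroup.closure_mono Set.subset_union_right) _,
      sup_le_sup_right (Subgroup.closure_mono Set.subset_union_right) _, le_sup_right]
  · interval_cases i
    exacts [invA_top _, (iv_cl i1).anti le_top, (iv_cl i2).anti le_top, (iv_cl hD).anti le_top, invA_Fr _]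
  · interval_cases i
    · exact fun x hx => step_cl hg (iv_cl i1) le_sup_right (fun _ h => h) (fun x hx => s (.inl (h0 x hx))) x (s hx)
    · exact step_cl hg (iv_cl i2) le_sup_right i1.le fun x hx => hx.elim (fun k => s (.inl (h1 x k))) fun k =>
        k.elim (fun k => s (.inr (h2 x k))) fun k => mem_sup_right (h3 x k)
    · exact step_cl hg (iv_cl hD) le_sup_right i2.le fun x hx => hx.elim (fun k => s (h2 x k)) fun k =>
        mem_sup_right (h3 x k)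
    · exact step_cl hg (invA_Fr _) le_rfl hD.le h3

theorem ch2 (hX : Iv (⊤ : Subgroup (MulAut E)) X) (hY : Iv (⊤ : Subgroup (MulAut E)) Y) {g : Ω}
    (h0 : ∀ x ∈ E, ⁅g, x⁆ ∈ X) (h1 : ∀ x ∈ X, ⁅g, x⁆ ∈ Y) (h2 : ∀ x ∈ Y, ⁅g, x⁆ ∈ Fr p E) : g ∈ E :=
  h.ch3 hΩ (Iv.top _) hX hY (fun x hx => hX.le _ (h0 x hx)) h0 h1 h2

theorem ch1 (hX : Iv (⊤ : Subgroup (MulAut E)) X) {g : Ω} (h0 : ∀ x ∈ E, ⁅g, x⁆ ∈ X)
    (h1 : ∀ x ∈ X, ⁅g, x⁆ ∈ Fr p E) : g ∈ E :=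
  h.ch2 hΩ (Iv.top _) hX (fun x hx => hX.le _ (h0 x hx)) h0 h1

theorem ch0 {g : Ω} (h0 : ∀ x ∈ E, ⁅g, x⁆ ∈ Fr p E) : g ∈ E :=
  h.ch1 hΩ (Iv.top _) (fun x hx => Fr_le (h0 x hx)) h0

theorem cent {g : Ω} (h0 : ∀ x ∈ E, ⁅g, x⁆ = 1) : g ∈ E := h.ch0 hΩ fun x hx => h0 x hx ▸ one_mem _

/-- An offender on `E / Φ(E)` is a Sylow subgroup of the outer automizer. -/
theorem ff {B Y : Subgroup Ω} (hB : ∀ b ∈ B, ∀ x ∈ E, ⁅b, x⁆ ∈ E) (hne : ¬ B ≤ E)
    (hab : ∀ a ∈ B, ∀ b ∈ B, ⁅a, b⁆ ∈ E) (hpw : ∀ b ∈ B, b ^ p ∈ E)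
    (hc : ∀ b ∈ B, ∀ y ∈ Y, y ∈ E → ⁅b, y⁆ ∈ Fr p E) (hi : Y.relIndex E ≤ E.relIndex B) {s : Ω}
    (hs : ∀ x ∈ E, ⁅s, x⁆ ∈ E) : ∃ a ∈ B, ∃ x ∈ E, s = a * x := by
  obtain ⟨F, hF, hE⟩ := h
  have hS : IsPGroup p (⊤ : Subgroup Ω) := hΩ.to_subgroup _
  have hA : B ≤ normalizerIn ⊤ E := fun b hb => ⟨mem_top _, norm_of_cm (hB b hb)⟩
  replace hs : s ∈ normalizerIn ⊤ E := ⟨mem_top _, norm_of_cm hs⟩
  revert s
  have := finite_of_le hE.le
  obtain ⟨hcen, -, hnorm, X, hX⟩ := id hE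
  have hrad := hE.isRadical hS
  set Φ := ⁅E, E⁆ ⊔ powerClosure p 1 E with hΦ
  have hI : ∀ B : Subgroup (MulAut E), InvA B Φ := fun B =>
    ((invA_top _).commutator (invA_top _)).sup ((invA_top _).powerClosure p 1)
  have hmap : ∀ (α : MulAut E) (x : E), (x : Ω) ∈ Φ → (α x : Ω) ∈ Φ := fun α x hx => by
    have := (hI ⊤).2 α (mem_top _) x hx
    rwa [totA_apply α x.2] at this
  have hn : (Φ.subgroupOf E).Normal := ⟨fun x hx g => hmap (MulAut.conj g) x hx⟩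
  have hcomm : ∀ a b : E ⧸ Φ.subgroupOf E, a * b = b * a := by
    intro a b
    obtain ⟨a, rfl⟩ := QuotientGroup.mk_surjective a
    obtain ⟨b, rfl⟩ := QuotientGroup.mk_surjective b
    rw [← QuotientGroup.mk_mul, ← QuotientGroup.mk_mul, QuotientGroup.eq, mem_subgroupOf]
    refine mem_sup_left ?_
    have := commutator_mem_commutator (inv_mem b.2) (inv_mem a.2)
    simpa [commutatorElement_def, mul_assoc] using this
  have hexp : ∀ a : E ⧸ Φ.subgroupOf E, a ^ p = 1 := by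
    intro a
    obtain ⟨a, rfl⟩ := QuotientGroup.mk_surjective a
    rw [← QuotientGroup.mk_pow, QuotientGroup.eq_one_iff, mem_subgroupOf]
    exact mem_sup_right (subset_closure ⟨a, a.2, by rw [pow_one]; rfl⟩)
  let σ0 : F.autGroup E →* Monoid.End (E ⧸ Φ.subgroupOf E) :=
    { toFun := fun α => QuotientGroup.map _ _ (α : MulAut E).toMonoidHom fun x hx => hmap α x hx
      map_one' := QuotientGroup.monoidHom_ext _ (MonoidHom.ext fun _ => rfl)
      map_mul' := fun a b => QuotientGroup.monoidHom_ext _ (MonoidHom.ext fun _ => rfl) }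
  have hσ0 : ∀ (α : F.autGroup E) (x : E),
      σ0 α (QuotientGroup.mk x) = QuotientGroup.mk ((α : MulAut E) x) := fun _ _ => rfl
  have hker : (Inn E).subgroupOf (F.autGroup E) ≤ σ0.ker := by
    intro α hα
    obtain ⟨g, hg, e⟩ := mem_inn_iff.1 (mem_subgroupOf.1 hα)
    refine QuotientGroup.monoidHom_ext _ (MonoidHom.ext fun x => ?_)
    have e1 : (α : MulAut E) x = ⟨g, hg⟩ * x * ⟨g, hg⟩⁻¹ := Subtype.ext (e x)
    change σ0 α (QuotientGroup.mk x) = QuotientGroup.mk x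
    rw [hσ0, e1, QuotientGroup.mk_mul, QuotientGroup.mk_mul, QuotientGroup.mk_inv, hcomm _ (x : _ ⧸ _),
      mul_inv_cancel_right]
  let σ := QuotientGroup.lift _ σ0 hker
  have hσ : ∀ g, (∀ x, σ g x = x) → g = 1 := by
    intro g hg
    obtain ⟨α, rfl⟩ := QuotientGroup.mk_surjective g
    rw [QuotientGroup.eq_one_iff, mem_subgroupOf]
    let C : ℕ → Subgroup Ω := fun i => [E, Φ].getD i ⊥
    have hK : IsPGroup p (chainStab E C 1) := isPGroup_chainStab (hS.to_le hE.le) rfl le_rfl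
    have hIC : ∀ l : MulAut E, ∀ i ≤ 1, l ∈ stabA E (C i) := fun l i hi => by
      interval_cases i
      exacts [(invA_top ⊤).le_stabA (mem_top l), (hI ⊤).le_stabA (mem_top l)]
    refine hrad.le_inn (A := chainStab E C 1 ⊓ F.autGroup E) inf_le_right
      (fun l hl => mem_normalizer_iff.2 fun β => ⟨fun hβ => ⟨conj_mem_chainStab hβ.1 (hIC l),
        mul_mem (mul_mem hl hβ.2) (Subgroup.inv_mem _ hl)⟩, fun hβ => ⟨?_, ?_⟩⟩) (hK.to_le inf_le_left) ⟨?_, α.2⟩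
    · simpa [mul_assoc] using conj_mem_chainStab hβ.1 (hIC l⁻¹)
    · simpa [mul_assoc] using mul_mem (mul_mem (Subgroup.inv_mem _ hl) hβ.2) hl
    · refine mem_chainStab_of le_rfl ?_ ?_
      · intro i hi
        interval_cases i
        exact (hI ⊤).1
      · intro i hi x hx
        interval_cases i
        have h1 : (QuotientGroup.mk ((α : MulAut E) ⟨x, hx⟩) : E ⧸ Φ.subgroupOf E) =
            QuotientGroup.mk ⟨x, hx⟩ := hg (QuotientGroup.mk ⟨x, hx⟩)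
        have h2 := QuotientGroup.eq.1 h1.symm
        rw [totA_apply _ (show x ∈ E from hx)]
        exact h2
  let c : normalizerIn ⊤ E →* F.autGroup E :=
    MonoidHom.mk' (fun s => ⟨cAut E s, F.cAut_mem_autGroup hE.le s.2⟩)
      fun a b => Subtype.ext (cAut_mul a.2.2 b.2.2)
  let f := (QuotientGroup.mk' ((Inn E).subgroupOf (F.autGroup E))).comp c
  have hf : f.ker = E.subgroupOf (normalizerIn ⊤ E) := by
    ext s
    rw [MonoidHom.mem_ker, mem_subgroupOf, ← hcen.cAut_mem_inn_iff s.2]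
    exact QuotientGroup.eq_one_iff _
  have hsyl := C3.off_core hcomm hexp σ hσ (Inv.SE.isStronglyPEmbedded_iff.1 hX)
    (A := (B.subgroupOf (normalizerIn ⊤ E)).map f) ⟨⟨⟨?_⟩⟩, ?_⟩ ?_
    ((Y.subgroupOf E).map (QuotientGroup.mk' (Φ.subgroupOf E))) ?_ ?_
  · have hp : IsPGroup p f.range := by
      rw [MonoidHom.range_eq_map]
      exact ((hS.to_le normalizerIn_le).of_equiv topEquiv.symm).map f
    have e := hsyl.max f.range hp (map_le_range _ _) le_top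
    intro s hs
    obtain ⟨a, ha', e'⟩ : f ⟨s, hs⟩ ∈ (B.subgroupOf (normalizerIn ⊤ E)).map f := e ▸ ⟨_, rfl⟩
    have h1 : a⁻¹ * ⟨s, hs⟩ ∈ f.ker := by
      rw [MonoidHom.mem_ker, map_mul, map_inv, e', inv_mul_cancel]
    rw [hf] at h1
    exact ⟨a, ha', _, h1, by simp⟩
  · rintro ⟨_, a, h1, rfl⟩ ⟨_, b, h2, rfl⟩
    refine Subtype.ext ?_
    change f a * f b = f b * f a
    rw [← map_mul, ← map_mul]
    rw [← mul_inv_eq_one, ← map_inv, ← map_mul, ← MonoidHom.mem_ker, hf, mem_subgroupOf]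
    simpa [commutatorElement_def, mul_assoc] using hab a h1 b h2
  · rintro _ ⟨a, h1, rfl⟩
    rw [← map_pow, ← MonoidHom.mem_ker, hf, mem_subgroupOf]
    exact hpw a h1
  · intro e
    refine hne fun a h1 => ?_
    have h2 : f ⟨a, hA h1⟩ ∈ (B.subgroupOf (normalizerIn ⊤ E)).map f := ⟨_, h1, rfl⟩
    rw [e, mem_bot, ← MonoidHom.mem_ker, hf] at h2
    exact h2
  · rintro _ ⟨a, h1, rfl⟩ _ ⟨y, h2, rfl⟩
    refine Eq.symm (QuotientGroup.eq.2 ?_)
    change (y : Ω)⁻¹ * (cAut E a y : Ω) ∈ Φ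
    rw [coe_cAut a.2.2]
    have := hmap (MulAut.conj y⁻¹) ⟨_, Fr_le (hc a h1 y h2 y.2)⟩ (hc a h1 y h2 y.2)
    simpa [commutatorElement_def, mul_assoc] using this
  · rw [← relIndex_ker, hf, relIndex_subgroupOf hA]
    exact (Nat.le_of_dvd (Nat.pos_of_ne_zero index_ne_zero_of_finite)
      (index_map_dvd _ (QuotientGroup.mk'_surjective _))).trans hi

end Es

end Cfsg.Agent.UF
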