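import Mathlib
import Cfsg.Agent.UF.Kit
import Cfsg.Agent.Cl.UField

/-! The unipotent group of `SU₅` in coordinates. -/

set_option autoImplicit false
set_option linter.unusedSectionVars false

namespace Cfsg.Agent.UF

open Subgroup Cfsg.FusionSystem Cfsg.Agent.Fus Cfsg.Agent.Cl
open scoped commutatorElement

universe u

/-- Coordinates: `s` (root `e₁-e₂`), `u, c` (roots `e₂, 2e₂`), `w, z` (roots `e₁, 2e₁`),
`t` (root `e₁+e₂`). -/
@[ext] structure U5 (k : Type u) [Field k] [StarRing k] where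
  s : k
  u : k
  w : k
  c : k
  t : k
  z : k
  hc : c + star c + u * star u = 0
  hz : z + star z + w * star w = 0

variable {k : Type u} [Field k] [StarRing k]

namespace U5

@[simp] theorem star_c (x : U5 k) : star x.c = -x.c - x.u * star x.u := by linear_combination x.hc
@[simp] theorem star_z (x : U5 k) : star x.z = -x.z - x.w * star x.w := by linear_combination x.hz

instance : Mul (U5 k) := ⟨fun x y => ⟨x.s + y.s, x.u + y.u, x.w + y.w + x.s * y.u,
  x.c + y.c - x.u * star y.u, x.t + y.t + x.s * y.c - x.w * star y.u,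
  x.z + y.z - x.s * star y.t - x.s * y.u * star y.w + star x.s * y.t + x.s * star x.s * y.c -
    x.w * (star y.w + star x.s * star y.u), by simp; ring, by simp; ring⟩⟩

instance : One (U5 k) := ⟨⟨0, 0, 0, 0, 0, 0, by simp, by simp⟩⟩

instance : Inv (U5 k) := ⟨fun x => ⟨-x.s, -x.u, -x.w + x.s * x.u, -x.c - x.u * star x.u,
  -x.t + x.s * x.c + x.s * x.u * star x.u - x.w * star x.u,
  -x.z - x.w * star x.w - x.s * star x.t + star x.s * x.t - x.s * star x.s * x.c -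
    x.s * star x.s * x.u * star x.u + star x.s * x.w * star x.u, by simp; ring, by simp; ring⟩⟩

variable (x y : U5 k)

@[simp] theorem mul_s : (x * y).s = x.s + y.s := rfl
@[simp] theorem mul_u : (x * y).u = x.u + y.u := rfl
@[simp] theorem mul_w : (x * y).w = x.w + y.w + x.s * y.u := rfl
@[simp] theorem mul_c : (x * y).c = x.c + y.c - x.u * star y.u := rfl
@[simp] theorem mul_t : (x * y).t = x.t + y.t + x.s * y.c - x.w * star y.u := rfl
@[simp] theorem mul_z : (x * y).z = x.z + y.z - x.s * star y.t - x.s * y.u * star y.w +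
    star x.s * y.t + x.s * star x.s * y.c - x.w * (star y.w + star x.s * star y.u) := rfl
@[simp] theorem one_s : (1 : U5 k).s = 0 := rfl
@[simp] theorem one_u : (1 : U5 k).u = 0 := rfl
@[simp] theorem one_w : (1 : U5 k).w = 0 := rfl
@[simp] theorem one_c : (1 : U5 k).c = 0 := rfl
@[simp] theorem one_t : (1 : U5 k).t = 0 := rfl
@[simp] theorem one_z : (1 : U5 k).z = 0 := rfl
@[simp] theorem inv_s : x⁻¹.s = -x.s := rfl
@[simp] theorem inv_u : x⁻¹.u = -x.u := rfl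
@[simp] theorem inv_w : x⁻¹.w = -x.w + x.s * x.u := rfl
@[simp] theorem inv_c : x⁻¹.c = -x.c - x.u * star x.u := rfl
@[simp] theorem inv_t : x⁻¹.t = -x.t + x.s * x.c + x.s * x.u * star x.u - x.w * star x.u := rfl
@[simp] theorem inv_z : x⁻¹.z = -x.z - x.w * star x.w - x.s * star x.t + star x.s * x.t -
    x.s * star x.s * x.c - x.s * star x.s * x.u * star x.u + star x.s * x.w * star x.u := rfl

instance : Group (U5 k) := Group.ofLeftAxioms (fun x y z => by ext <;> simp <;> ring)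
  (fun x => by ext <;> simp) fun x => by ext <;> simp <;> ring

/-! Commutators `⁅x, y⁆ = x y x⁻¹ y⁻¹`. -/

@[simp] theorem cm_s : ⁅x, y⁆.s = 0 := by simp [commutatorElement_def]
@[simp] theorem cm_u : ⁅x, y⁆.u = 0 := by simp [commutatorElement_def]
@[simp] theorem cm_w : ⁅x, y⁆.w = x.s * y.u - y.s * x.u := by simp [commutatorElement_def]; ring
@[simp] theorem cm_c : ⁅x, y⁆.c = star x.u * y.u - star y.u * x.u := by
  simp [commutatorElement_def]; ring
@[simp] theorem cm_t : ⁅x, y⁆.t = star x.u * y.w - star y.u * x.w - x.c * y.s + y.c * x.s +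
    (star x.u + star y.u) * (x.s * y.u - y.s * x.u) := by simp [commutatorElement_def]; ring
@[simp] theorem cm_z : ⁅x, y⁆.z = star x.s * y.t - star y.s * x.t + star x.t * y.s - star y.t * x.s +
    star x.w * y.w - star y.w * x.w - star x.s * star y.u * x.w + star x.s * y.c * x.s +
    star y.s * star x.u * y.w - star y.s * x.c * y.s + star x.w * x.s * y.u - star y.w * y.s * x.u +
    star y.s * star x.u * (x.s * y.u - y.s * x.u) := by simp [commutatorElement_def]; ring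

instance [Finite k] : Finite (U5 k) :=
  Finite.of_injective (fun x : U5 k => (x.s, x.u, x.w, x.c, x.t, x.z)) fun _ _ h => by
    simp only [Prod.mk.injEq] at h
    exact U5.ext h.1 h.2.1 h.2.2.1 h.2.2.2.1 h.2.2.2.2.1 h.2.2.2.2.2

theorem eq_one_iff : x = 1 ↔ x.s = 0 ∧ x.u = 0 ∧ x.w = 0 ∧ x.c = 0 ∧ x.t = 0 ∧ x.z = 0 := U5.ext_iff

end U5

open U5

variable (k)

/-- The centre, of order `q`. -/
def Z1 : Subgroup (U5 k) where
  carrier := {x | x.s = 0 ∧ x.u = 0 ∧ x.w = 0 ∧ x.c = 0 ∧ x.t = 0}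
  one_mem' := ⟨rfl, rfl, rfl, rfl, rfl⟩
  mul_mem' := by rintro x y ⟨_, _, _, _, _⟩ ⟨_, _, _, _, _⟩; simp [*]
  inv_mem' := by rintro x ⟨_, _, _, _, _⟩; simp [*]

/-- The second centre, of order `q³`. -/
def Z2 : Subgroup (U5 k) where
  carrier := {x | x.s = 0 ∧ x.u = 0 ∧ x.w = 0 ∧ x.c = 0}
  one_mem' := ⟨rfl, rfl, rfl, rfl⟩
  mul_mem' := by rintro x y ⟨_, _, _, _⟩ ⟨_, _, _, _⟩; simp [*]
  inv_mem' := by rintro x ⟨_, _, _, _⟩; simp [*]

/-- The centre of `Q2`, of order `q⁴`. -/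
def V4 : Subgroup (U5 k) where
  carrier := {x | x.s = 0 ∧ x.u = 0 ∧ x.w = 0}
  one_mem' := ⟨rfl, rfl, rfl⟩
  mul_mem' := by rintro x y ⟨_, _, _⟩ ⟨_, _, _⟩; simp [*]
  inv_mem' := by rintro x ⟨_, _, _⟩; simp [*]

/-- `Q1 ⊓ Q2`, of order `q⁵`. -/
def D5 : Subgroup (U5 k) where
  carrier := {x | x.s = 0 ∧ x.u = 0 ∧ x.c = 0}
  one_mem' := ⟨rfl, rfl, rfl⟩
  mul_mem' := by rintro x y ⟨_, _, _⟩ ⟨_, _, _⟩; simp [*]
  inv_mem' := by rintro x ⟨_, _, _⟩; simp [*]

/-- The third centre and derived subgroup, of order `q⁶`. -/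
def Z3 : Subgroup (U5 k) where
  carrier := {x | x.s = 0 ∧ x.u = 0}
  one_mem' := ⟨rfl, rfl⟩
  mul_mem' := by rintro x y ⟨_, _⟩ ⟨_, _⟩; simp [*]
  inv_mem' := by rintro x ⟨_, _⟩; simp [*]

/-- The radical `q^(1+6)`. -/
def Q1 : Subgroup (U5 k) where
  carrier := {x | x.u = 0 ∧ x.c = 0}
  one_mem' := ⟨rfl, rfl⟩
  mul_mem' := by rintro x y ⟨_, _⟩ ⟨_, _⟩; simp [*]
  inv_mem' := by rintro x ⟨_, _⟩; simp [*]

/-- The radical `q^(4+4)`. -/
def Q2 : Subgroup (U5 k) where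
  carrier := {x | x.s = 0}
  one_mem' := rfl
  mul_mem' := by intro x y (_ : x.s = 0) (_ : y.s = 0); simp [*]
  inv_mem' := by intro x (_ : x.s = 0); simp [*]

/-- `Q1 V4`, of order `q⁸`. -/
def R8 : Subgroup (U5 k) where
  carrier := {x | x.u = 0}
  one_mem' := rfl
  mul_mem' := by intro x y (_ : x.u = 0) (_ : y.u = 0); simp [*]
  inv_mem' := by intro x (_ : x.u = 0); simp [*]

/-- The coordinate `s` as a homomorphism. -/
def sH : U5 k →* Multiplicative k := MonoidHom.mk' (fun x => .ofAdd x.s) fun _ _ => rfl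

/-- The coordinate `u` as a homomorphism. -/
def uH : U5 k →* Multiplicative k := MonoidHom.mk' (fun x => .ofAdd x.u) fun _ _ => rfl

variable {k} {x : U5 k}

@[simp] theorem mem_Z1 : x ∈ Z1 k ↔ x.s = 0 ∧ x.u = 0 ∧ x.w = 0 ∧ x.c = 0 ∧ x.t = 0 := Iff.rfl
@[simp] theorem mem_Z2 : x ∈ Z2 k ↔ x.s = 0 ∧ x.u = 0 ∧ x.w = 0 ∧ x.c = 0 := Iff.rfl
@[simp] theorem mem_V4 : x ∈ V4 k ↔ x.s = 0 ∧ x.u = 0 ∧ x.w = 0 := Iff.rfl
@[simp] theorem mem_D5 : x ∈ D5 k ↔ x.s = 0 ∧ x.u = 0 ∧ x.c = 0 := Iff.rfl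
@[simp] theorem mem_Z3 : x ∈ Z3 k ↔ x.s = 0 ∧ x.u = 0 := Iff.rfl
@[simp] theorem mem_Q1 : x ∈ Q1 k ↔ x.u = 0 ∧ x.c = 0 := Iff.rfl
@[simp] theorem mem_Q2 : x ∈ Q2 k ↔ x.s = 0 := Iff.rfl
@[simp] theorem mem_R8 : x ∈ R8 k ↔ x.u = 0 := Iff.rfl
theorem ker_sH : (sH k).ker = Q2 k := rfl
theorem ker_uH : (uH k).ker = R8 k := rfl

/-! ### Standard automorphisms -/

/-- Diagonal times field automorphisms. -/
@[ext] structure Sd (k : Type u) [Field k] [StarRing k] where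
  a : k
  b : k
  τ : k ≃+* k
  ha : a ≠ 0
  hb : b ≠ 0
  hτ : ∀ x, τ (star x) = star (τ x)

namespace Sd

attribute [simp] hτ

instance : Mul (Sd k) := ⟨fun γ δ => ⟨γ.a * γ.τ δ.a, γ.b * γ.τ δ.b, δ.τ.trans γ.τ,
  mul_ne_zero γ.ha ((map_ne_zero _).2 δ.ha), mul_ne_zero γ.hb ((map_ne_zero _).2 δ.hb),
  fun x => by simp⟩⟩

instance : One (Sd k) := ⟨⟨1, 1, RingEquiv.refl k, one_ne_zero, one_ne_zero, fun _ => rfl⟩⟩

instance : Inv (Sd k) := ⟨fun γ => ⟨γ.τ.symm γ.a⁻¹, γ.τ.symm γ.b⁻¹, γ.τ.symm,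
  (map_ne_zero _).2 (inv_ne_zero γ.ha), (map_ne_zero _).2 (inv_ne_zero γ.hb),
  fun x => γ.τ.injective (by simp)⟩⟩

variable (γ δ : Sd k)

@[simp] theorem mul_a : (γ * δ).a = γ.a * γ.τ δ.a := rfl
@[simp] theorem mul_b : (γ * δ).b = γ.b * γ.τ δ.b := rfl
@[simp] theorem mul_τ (y : k) : (γ * δ).τ y = γ.τ (δ.τ y) := rfl
@[simp] theorem one_a : (1 : Sd k).a = 1 := rfl
@[simp] theorem one_b : (1 : Sd k).b = 1 := rfl
@[simp] theorem one_τ (y : k) : (1 : Sd k).τ y = y := rfl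
@[simp] theorem inv_a : γ⁻¹.a = γ.τ.symm γ.a⁻¹ := rfl
@[simp] theorem inv_b : γ⁻¹.b = γ.τ.symm γ.b⁻¹ := rfl
@[simp] theorem inv_τ (y : k) : γ⁻¹.τ y = γ.τ.symm y := rfl

instance : Group (Sd k) := Group.ofLeftAxioms (fun x y z => by ext <;> simp [mul_assoc])
  (fun x => by ext <;> simp) fun x => by
    ext <;> simp [← map_mul, x.ha, x.hb, -map_inv₀]

instance [Finite k] : Finite (Sd k) :=
  Finite.of_injective (fun γ : Sd k => (γ.a, γ.b, (γ.τ : k → k))) fun _ _ h => by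
    simp only [Prod.mk.injEq] at h
    exact Sd.ext h.1 h.2.1 (DFunLike.coe_injective h.2.2)

/-- The action on the unipotent group, as a function. -/
def ap (γ : Sd k) (x : U5 k) : U5 k :=
  ⟨γ.a * γ.τ x.s, γ.b * γ.τ x.u, γ.a * γ.b * γ.τ x.w, γ.b * star γ.b * γ.τ x.c,
    γ.a * γ.b * star γ.b * γ.τ x.t, γ.a * star γ.a * (γ.b * star γ.b) * γ.τ x.z,
    by simp [← hτ]; simp; ring, by simp [← hτ]; simp; ring⟩

variable (x : U5 k)

@[simp] theorem ap_s : (γ.ap x).s = γ.a * γ.τ x.s := rfl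
@[simp] theorem ap_u : (γ.ap x).u = γ.b * γ.τ x.u := rfl
@[simp] theorem ap_w : (γ.ap x).w = γ.a * γ.b * γ.τ x.w := rfl
@[simp] theorem ap_c : (γ.ap x).c = γ.b * star γ.b * γ.τ x.c := rfl
@[simp] theorem ap_t : (γ.ap x).t = γ.a * γ.b * star γ.b * γ.τ x.t := rfl
@[simp] theorem ap_z : (γ.ap x).z = γ.a * star γ.a * (γ.b * star γ.b) * γ.τ x.z := rfl

theorem ap_mul (x y : U5 k) : γ.ap (x * y) = γ.ap x * γ.ap y := by ext <;> simp <;> ring
theorem mul_ap : (γ * δ).ap x = γ.ap (δ.ap x) := by ext <;> simp <;> ring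
theorem one_ap : (1 : Sd k).ap x = x := by ext <;> simp

/-- The action on the unipotent group. -/
def act : Sd k →* MulAut (U5 k) := MonoidHom.mk' (fun γ =>
  { toFun := γ.ap
    invFun := γ⁻¹.ap
    left_inv := fun x => by rw [← mul_ap, inv_mul_cancel, one_ap]
    right_inv := fun x => by rw [← mul_ap, mul_inv_cancel, one_ap]
    map_mul' := γ.ap_mul }) fun γ δ => MulEquiv.ext (mul_ap γ δ)

@[simp] theorem act_apply : act γ x = γ.ap x := rfl

/-- A diagonal automorphism. -/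
def tor (a b : k) (ha : a ≠ 0) (hb : b ≠ 0) : Sd k := ⟨a, b, RingEquiv.refl k, ha, hb, fun _ => rfl⟩

@[simp] theorem tor_a (a b : k) (ha : a ≠ 0) (hb : b ≠ 0) : (tor a b ha hb).a = a := rfl
@[simp] theorem tor_b (a b : k) (ha : a ≠ 0) (hb : b ≠ 0) : (tor a b ha hb).b = b := rfl
@[simp] theorem tor_τ (a b : k) (ha : a ≠ 0) (hb : b ≠ 0) (y : k) : (tor a b ha hb).τ y = y := rfl

/-- The torus of the Levi factor `SU₃`. -/
abbrev tor1 (l : k) (h : l ≠ 0) : Sd k :=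
  tor l⁻¹ (l ^ 2 / star l) (inv_ne_zero h) (div_ne_zero (pow_ne_zero 2 h) (star_ne_zero.2 h))

/-- The torus of the Levi factor `SL₂`. -/
abbrev tor2 (m : k) (h : m ≠ 0) : Sd k := tor (m ^ 2) m⁻¹ (pow_ne_zero 2 h) (inv_ne_zero h)

end Sd

/-- The Weyl element acting on `Q1`. -/
def n1 (x : U5 k) : U5 k :=
  ⟨x.t, 0, -x.w, 0, x.s, x.z - x.t * star x.s + x.s * star x.t, by simp, by simp; ring⟩

/-- The Weyl element acting on `Q2`. -/
def n2 (x : U5 k) : U5 k :=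
  ⟨0, -x.w, x.u, x.z, star x.t + x.u * star x.w, x.c, by simp; ring, by simp; ring⟩

theorem n1_mem (x : U5 k) : n1 x ∈ Q1 k := ⟨rfl, rfl⟩
theorem n2_mem (x : U5 k) : n2 x ∈ Q2 k := rfl

theorem n1_mul {x y : U5 k} (hx : x ∈ Q1 k) (hy : y ∈ Q1 k) : n1 (x * y) = n1 x * n1 y := by
  ext <;> simp [n1, hx.1, hx.2, hy.1, hy.2] <;> ring

theorem n2_mul {x y : U5 k} (hx : x ∈ Q2 k) (hy : y ∈ Q2 k) : n2 (x * y) = n2 x * n2 y := by
  rw [mem_Q2] at hx hy
  ext <;> simp [n2, hx, hy] <;> ring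

theorem n1_n1 {x : U5 k} (hx : x ∈ Q1 k) : n1 (n1 x) = x := by
  ext <;> simp [n1, hx.1, hx.2]

/-! ### Fusion systems -/

variable (F : FusionSystem (⊤ : Subgroup (U5 k)))

/-- The standard automorphisms lying in `F`. -/
def KF : Subgroup (Sd k) where
  carrier := {γ | F.Mor ⊤ γ.ap}
  one_mem' := (F.mor_id le_rfl).congr fun x _ => (Sd.one_ap x).symm
  mul_mem' := fun {γ δ} hγ hδ =>
    (Mor.comp hγ hδ fun _ _ => mem_top _).congr fun x _ => (γ.mul_ap δ x).symm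
  inv_mem' := fun {γ} hγ => (Iso.of_leftInv (P := ⊤) (Q := ⊤) ⟨hγ, fun _ _ => mem_top _, fun y _ =>
    ⟨γ⁻¹.ap y, mem_top _, (Sd.act γ).apply_symm_apply y⟩⟩
      fun x _ => (Sd.act γ).symm_apply_apply x).mor

theorem mem_KF {γ : Sd k} : γ ∈ KF F ↔ F.Mor ⊤ γ.ap := Iff.rfl

/-- Every automorphism of `F` on the whole group is inner times standard. -/
def Std : Prop :=
  ∀ f, F.Mor ⊤ f → ∃ g : U5 k, ∃ γ ∈ KF F, ∀ x, f x = g * γ.ap x * g⁻¹

/-- Bruhat decomposition of the automizer of `Q`. -/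
def Bru (Q : Subgroup (U5 k)) (n : U5 k → U5 k) : Prop :=
  ∀ f, F.Iso Q Q f → ∃ g, F.Mor ⊤ g ∧
    ((∀ x ∈ Q, f x = g x) ∨ ∃ y : U5 k, ∀ x ∈ Q, f x = y * n (g x) * y⁻¹)

/-! ### The modules `Q1 / Z1 = k³ ∋ (t, w, s)` and `Q2 / V4 = k² ∋ (w, u)` -/

/-- Additive automorphisms, as a group under composition. -/
abbrev AA (A : Type u) [AddCommGroup A] := A ≃ₗ[ℤ] A

/-- The Hermitian form. -/
def hH (v v' : k × k × k) : k := v.1 * star v'.2.2 + v.2.1 * star v'.2.1 + v.2.2 * star v'.1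

/-- The alternating form; the commutator map of `Q1` is `-hB`. -/
def hB (v v' : k × k × k) : k := hH v v' - star (hH v v')

/-- The unipotent elements of `SU₃` (for `c + star c + a * star a = 0`). -/
def uW (a c : k) : AA (k × k × k) := AddEquiv.toIntLinearEquiv
  { toFun := fun v => (v.1 - star a * v.2.1 + c * v.2.2, v.2.1 + a * v.2.2, v.2.2)
    invFun := fun v => (v.1 + star a * v.2.1 - (c + a * star a) * v.2.2, v.2.1 - a * v.2.2, v.2.2)
    left_inv := fun v => by ext <;> simp <;> ring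
    right_inv := fun v => by ext <;> simp <;> ring
    map_add' := fun v v' => by ext <;> simp <;> ring }

@[simp] theorem uW_apply (a c : k) (v : k × k × k) :
    uW a c v = (v.1 - star a * v.2.1 + c * v.2.2, v.2.1 + a * v.2.2, v.2.2) := rfl

/-- The Weyl element of `SU₃`. -/
def nW : AA (k × k × k) := AddEquiv.toIntLinearEquiv
  { toFun := fun v => (v.2.2, -v.2.1, v.1)
    invFun := fun v => (v.2.2, -v.2.1, v.1)
    left_inv := fun v => by simp
    right_inv := fun v => by simp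
    map_add' := fun v v' => by ext <;> simp; ring }

@[simp] theorem nW_apply (v : k × k × k) : nW v = (v.2.2, -v.2.1, v.1) := rfl

/-- The action of a standard automorphism on `Q1 / Z1`, as a function. -/
def Sd.w3 (γ : Sd k) (v : k × k × k) : k × k × k :=
  (γ.a * γ.b * star γ.b * γ.τ v.1, γ.a * γ.b * γ.τ v.2.1, γ.a * γ.τ v.2.2)

theorem Sd.mul_w3 (γ δ : Sd k) (v : k × k × k) : (γ * δ).w3 v = γ.w3 (δ.w3 v) := by
  ext <;> simp [Sd.w3] <;> ring

theorem Sd.one_w3 (v : k × k × k) : (1 : Sd k).w3 v = v := by simp [Sd.w3]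

/-- The action of the standard automorphisms on `Q1 / Z1`. -/
def dW : Sd k →* AA (k × k × k) := MonoidHom.mk' (fun γ => AddEquiv.toIntLinearEquiv
  { toFun := γ.w3
    invFun := γ⁻¹.w3
    left_inv := fun x => by rw [← Sd.mul_w3, inv_mul_cancel, Sd.one_w3]
    right_inv := fun x => by rw [← Sd.mul_w3, mul_inv_cancel, Sd.one_w3]
    map_add' := fun v v' => by ext <;> simp [Sd.w3] <;> ring }) fun γ δ => LinearEquiv.ext (γ.mul_w3 δ)

@[simp] theorem dW_apply (γ : Sd k) (v : k × k × k) : dW γ v =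
    (γ.a * γ.b * star γ.b * γ.τ v.1, γ.a * γ.b * γ.τ v.2.1, γ.a * γ.τ v.2.2) := rfl

/-- The unipotent elements of `SL₂`. -/
def aV (s : k) : AA (k × k) := AddEquiv.toIntLinearEquiv
  { toFun := fun v => (v.1 + s * v.2, v.2)
    invFun := fun v => (v.1 - s * v.2, v.2)
    left_inv := fun v => by simp
    right_inv := fun v => by simp
    map_add' := fun v v' => by ext <;> simp; ring }

@[simp] theorem aV_apply (s : k) (v : k × k) : aV s v = (v.1 + s * v.2, v.2) := rfl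

/-- The Weyl element of `SL₂`. -/
def nV : AA (k × k) := AddEquiv.toIntLinearEquiv
  { toFun := fun v => (v.2, -v.1)
    invFun := fun v => (-v.2, v.1)
    left_inv := fun v => by simp
    right_inv := fun v => by simp
    map_add' := fun v v' => by ext <;> simp; ring }

@[simp] theorem nV_apply (v : k × k) : nV v = (v.2, -v.1) := rfl

/-- The action of a standard automorphism on `Q2 / V4`, as a function. -/
def Sd.v2 (γ : Sd k) (v : k × k) : k × k := (γ.a * γ.b * γ.τ v.1, γ.b * γ.τ v.2)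

theorem Sd.mul_v2 (γ δ : Sd k) (v : k × k) : (γ * δ).v2 v = γ.v2 (δ.v2 v) := by
  ext <;> simp [Sd.v2] <;> ring

theorem Sd.one_v2 (v : k × k) : (1 : Sd k).v2 v = v := by simp [Sd.v2]

/-- The action of the standard automorphisms on `Q2 / V4`. -/
def dV : Sd k →* AA (k × k) := MonoidHom.mk' (fun γ => AddEquiv.toIntLinearEquiv
  { toFun := γ.v2
    invFun := γ⁻¹.v2
    left_inv := fun x => by rw [← Sd.mul_v2, inv_mul_cancel, Sd.one_v2]
    right_inv := fun x => by rw [← Sd.mul_v2, mul_inv_cancel, Sd.one_v2]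
    map_add' := fun v v' => by ext <;> simp [Sd.v2] <;> ring }) fun γ δ => LinearEquiv.ext (γ.mul_v2 δ)

@[simp] theorem dV_apply (γ : Sd k) (v : k × k) :
    dV γ v = (γ.a * γ.b * γ.τ v.1, γ.b * γ.τ v.2) := rfl

end Cfsg.Agent.UF
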