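import Mathlib
import Cfsg.Agent.U5F.Model
import Cfsg.Prelude.Def_Classical

/-! The Sylow subgroup of `PSU₅`. -/

set_option autoImplicit false
set_option linter.unusedSectionVars false
set_option linter.unusedVariables false

namespace Cfsg.Agent.UF

open Subgroup Cfsg.FusionSystem Cfsg.Agent.Fus Cfsg.Agent.Cl Cfsg.Agent.Oc
open scoped commutatorElement

universe u

variable {k : Type u} [Field k] [StarRing k] [Finite k] {p q : ℕ} [Fact p.Prime] [CharP k p]

theorem nonempty_equiv (H : UField (starRingEnd k) q) (T : Sylow p (PSU 5 k q)) :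
    Nonempty ((T : Subgroup (PSU 5 k q)) ≃* U5 k) := by
  obtain ⟨p', n, hp', hc, hn, rfl⟩ := H.exists_prime_pow
  obtain rfl : p = p' := CharP.eq k ‹CharP k p› hc
  exact U5F.nonempty_sylow_U5 H hn T

end Cfsg.Agent.UF
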