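import Mathlib
import Cfsg.Agent.UF.Kit

/-! Extending automorphisms that keep a chain. -/

set_option autoImplicit false
set_option linter.unusedSectionVars false
set_option linter.unusedVariables false

namespace Cfsg.Agent.UF

open Subgroup Cfsg.FusionSystem Cfsg.Agent.Fus Cfsg.Agent.Cl Cfsg.Agent.Oc
open scoped commutatorElement

universe u

variable {k : Type u} [Field k] [StarRing k] [Finite k] {p q : ℕ} [Fact p.Prime] [CharP k p]

variable {Ω : Type u} [Group Ω] [Finite Ω] {F : FusionSystem (⊤ : Subgroup Ω)} {Q : Subgroup Ω}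
  {f : Ω → Ω}

theorem ext_of_chain (hΩ : IsPGroup p Ω) (hF : F.IsSaturated p) (C : ℕ → Subgroup Ω) (n : ℕ)
    (h0 : C 0 = Q) (hn : C n ≤ Fr p Q) (anti : ∀ i < n, C (i + 1) ≤ C i)
    (hQ : ∀ g, ∀ x ∈ Q, g * x * g⁻¹ ∈ Q) (hS : ∀ i < n, ∀ g : Ω, ∀ x ∈ C i, ⁅g, x⁆ ∈ C (i + 1))
    (hN : ∀ i ≤ n, ∀ g, ∀ x ∈ C i, g * x * g⁻¹ ∈ C i)
    (hf : F.Iso Q Q f) (hC : ∀ i ≤ n, ∀ x ∈ C i, f x ∈ C i) :
    ∃ g, F.Mor ⊤ g ∧ ∀ x ∈ Q, f x = g x := by
  have hT : IsPGroup p (⊤ : Subgroup Ω) := hΩ.to_subgroup _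
  have hnm : ∀ g, g ∈ normalizer (Q : Set Ω) := fun g => mem_normalizer_fintype (hQ g)
  have hfn := F.isFullyNormalized_of_le_normalizer (P := Q) le_top fun g _ => hnm g
  have hle : ∀ i ≤ n, C i ≤ Q := by
    intro i
    induction i with
    | zero => exact fun _ => h0.le
    | succ i ih => exact fun hi => (anti i hi).trans (ih (by omega))
  have h1 : autInducedBy ⊤ Q ≤ chainStab Q C n ⊓ F.autGroup Q := fun a ha => by
    obtain ⟨s, hs, rfl⟩ := mem_autInducedBy_iff_cAut.1 ha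
    refine ⟨mem_chainStab_of h0.le anti fun i hi x hx => ?_, F.cAut_mem_autGroup le_top hs⟩
    rw [totA_cAut hs.2 (hle i hi.le hx)]
    have := hN (i + 1) hi x⁻¹ _ (hS i hi s x hx)
    simpa [commutatorElement_def, mul_assoc] using this
  have h2 := (hF.fullyAutomized hT hfn).le_of_isPGroup hT
    ((isPGroup_chainStab (hΩ.to_subgroup Q) h0 hn).to_le inf_le_left) inf_le_right h1
  obtain ⟨β, hβ, e⟩ := (hF.receptive_of_fullyNormalized hT hfn).extend_normalizerIn hf.aut_mem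
    fun a ha => h2 ⟨conj_mem_chainStab (h1 ha).1 fun i hi => mem_stabA_of_maps (hle i hi) fun x hx => by
      rw [hf.totA_aut (hle i hi hx)]; exact hC i hi x hx,
      mul_mem (mul_mem hf.aut_mem (h1 ha).2) (Subgroup.inv_mem _ hf.aut_mem)⟩
  exact ⟨totA β, (mor_totA normalizerIn_le hβ).mono fun g _ => ⟨mem_top _, hnm g⟩,
    fun x hx => by rw [e x hx, hf.totA_aut hx]⟩

theorem inner_of_Fr (hΩ : IsPGroup p Ω) (hE : F.IsEssential p Q) (hf : F.Iso Q Q f)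
    (h : ∀ x ∈ Q, x⁻¹ * f x ∈ Fr p Q) : ∃ y ∈ Q, ∀ x ∈ Q, f x = y * x * y⁻¹ := by
  let C : ℕ → Subgroup Ω := fun i => [Q, Fr p Q].getD i ⊥
  have hK : IsPGroup p (chainStab Q C 1) := isPGroup_chainStab (hΩ.to_subgroup Q) rfl le_rfl
  have hIC : ∀ l : MulAut Q, ∀ i ≤ 1, l ∈ stabA Q (C i) := fun l i hi => by
    interval_cases i
    exacts [(invA_top ⊤).le_stabA (mem_top l), (invA_Fr ⊤).le_stabA (mem_top l)]
  have : hf.aut ∈ Inn Q := by
    refine (hE.isRadical (hΩ.to_subgroup _)).le_inn (A := chainStab Q C 1 ⊓ F.autGroup Q) inf_le_right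
      (fun l hl => mem_normalizer_fintype fun β hβ => ⟨conj_mem_chainStab hβ.1 (hIC l),
        mul_mem (mul_mem hl hβ.2) (Subgroup.inv_mem _ hl)⟩) (hK.to_le inf_le_left) ⟨?_, hf.aut_mem⟩
    refine mem_chainStab_of le_rfl (fun i hi => ?_) fun i hi x hx => ?_
    · interval_cases i
      exact Fr_le
    · interval_cases i
      rw [hf.totA_aut (show x ∈ Q from hx)]
      exact h x hx
  obtain ⟨y, hy, e⟩ := mem_inn_iff.1 this
  exact ⟨y, hy, fun x hx => by rw [← hf.totA_aut hx, totA_apply _ hx, e]⟩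

theorem exists_not_ext (hΩ : IsPGroup p Ω) (hF : F.IsSaturated p) (hE : F.IsEssential p Q)
    (hQ : ∀ g, ∀ x ∈ Q, g * x * g⁻¹ ∈ Q) :
    ∃ f, F.Iso Q Q f ∧ ¬ ∃ g, F.Mor ⊤ g ∧ ∀ x ∈ Q, f x = g x := by
  by_contra! h
  have hT : IsPGroup p (⊤ : Subgroup Ω) := hΩ.to_subgroup _
  refine hE.extAut_ne hT (le_antisymm (F.extAut_le Q) fun α hα => ?_)
  obtain ⟨g, hg, e⟩ := h _ (iso_totA le_top hα)
  exact mem_extAut (hF.lt_of_isEssential hT hE) hg fun x hx => (e x hx).symm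

end Cfsg.Agent.UF
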