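import Mathlib
import Cfsg.Agent.UF.Defs

/-! Orders and small facts. -/

set_option autoImplicit false
set_option linter.unusedSectionVars false
set_option linter.unusedVariables false

namespace Cfsg.Agent.UF

open Subgroup Cfsg.FusionSystem Cfsg.Agent.Fus Cfsg.Agent.Cl Cfsg.Agent.Oc
open scoped commutatorElement

universe u

variable {k : Type u} [Field k] [StarRing k] [Finite k] {p q : ℕ} [Fact p.Prime] [CharP k p]

theorem relIndex_le_card {G : Type*} [Group G] (Y E : Subgroup G) {T : Type*} [Finite T] (f : E → T)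
    (h : ∀ x y : E, f x = f y → (x : G)⁻¹ * y ∈ Y) : Y.relIndex E ≤ Nat.card T :=
  Nat.card_le_card_of_injective (fun c : E ⧸ Y.subgroupOf E => f c.out) fun c d e => by
    rw [← c.out_eq', ← d.out_eq']
    exact QuotientGroup.eq.2 (h _ _ e)

theorem card_le_relIndex {G : Type*} [Group G] [Finite G] (E B : Subgroup G) {T : Type*} (g : T → G)
    (hg : ∀ t, g t ∈ B) (h : ∀ t t', (g t)⁻¹ * g t' ∈ E → t = t') : Nat.card T ≤ E.relIndex B :=
  Nat.card_le_card_of_injective
    (fun t => (QuotientGroup.mk ⟨g t, hg t⟩ : B ⧸ E.subgroupOf B)) fun t t' e =>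
      h t t' (mem_subgroupOf.1 ((QuotientGroup.eq (s := E.subgroupOf B)).1 e))

/-- `|E| = |E : E ⊓ Y| |E ⊓ Y|`. -/
theorem card_eq_relIndex_mul {G : Type*} [Group G] (Y E : Subgroup G) :
    Nat.card E = Y.relIndex E * Nat.card (E ⊓ Y : Subgroup G) := by
  rw [relIndex, ← (Y.subgroupOf E).index_mul_card, ← inf_subgroupOf_left Y E,
    Nat.card_congr (subgroupOfEquivOfLe (inf_le_left : E ⊓ Y ≤ E)).toEquiv]

theorem relIndex_le_of_card_le {G : Type*} [Group G] [Finite G] {E B : Subgroup G}
    (h : Nat.card E ≤ Nat.card B) : B.relIndex E ≤ E.relIndex B := by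
  rw [card_eq_relIndex_mul B E, card_eq_relIndex_mul E B, inf_comm B E] at h
  exact Nat.le_of_mul_le_mul_right h Nat.card_pos

/-- The line over the fixed field through `s`. -/
theorem mem_line_iff {s x : k} (hs : s ≠ 0) :
    star s * x = star x * s ↔ ∃ l, star l = l ∧ x = l * s := by
  have hs' : star s ≠ 0 := star_ne_zero.2 hs
  refine ⟨fun h => ⟨x / s, ?_, by field_simp⟩, ?_⟩
  · rw [star_div₀]; field_simp; linear_combination -h
  · rintro ⟨l, hl, rfl⟩; simp [hl]; ring

/-- Two independent lines meet in zero. -/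
theorem eq_zero_of_lines {s s' x : k} (h : star s * s' ≠ star s' * s) (h1 : star s * x = star x * s)
    (h2 : star s' * x = star x * s') : x = 0 := by
  by_contra h0
  exact h (mul_left_cancel₀ h0 (by linear_combination s' * h1 - s * h2))

theorem pow_s (x : U5 k) (n : ℕ) : (x ^ n).s = n * x.s := by
  induction n with
  | zero => simp
  | succ n ih => rw [pow_succ, U5.mul_s, ih]; push_cast; ring

theorem pow_u (x : U5 k) (n : ℕ) : (x ^ n).u = n * x.u := by
  induction n with
  | zero => simp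
  | succ n ih => rw [pow_succ, U5.mul_u, ih]; push_cast; ring

theorem pow_w {x : U5 k} (hx : x.s = 0 ∨ x.u = 0) (n : ℕ) : (x ^ n).w = n * x.w := by
  induction n with
  | zero => simp
  | succ n ih => rw [pow_succ, U5.mul_w, ih, pow_s]; rcases hx with h | h <;> simp [h] <;> ring

theorem pow_t {x : U5 k} (hx : x ∈ Q1 k) (n : ℕ) : (x ^ n).t = n * x.t := by
  induction n with
  | zero => simp
  | succ n ih => rw [pow_succ, U5.mul_t, ih]; simp [hx.1, hx.2]; ring

theorem pow_mem_Z3 (x : U5 k) : x ^ p ∈ Z3 k := by simp [pow_s, pow_u]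

theorem pow_mem_V4 {x : U5 k} (hx : x ∈ Q2 k) : x ^ p ∈ V4 k := by
  simp [pow_s, pow_u, pow_w (.inl hx)]

theorem pow_mem_Z1 {x : U5 k} (hx : x ∈ Q1 k) : x ^ p ∈ Z1 k := by
  simp [pow_s, pow_u, pow_w (.inr hx.1), pow_t hx, (pow_mem hx p).2]

variable (H : UField (starRingEnd k) q)
include H

theorem exists_star_ne : ∃ θ : k, star θ ≠ θ := H.invol.exists_ne
theorem exists_tr_zero : ∃ δ : k, δ ≠ 0 ∧ star δ = -δ := H.invol.exists_trace_zero
theorem exists_tr {a : k} (ha : star a = a) : ∃ b : k, b + star b = a := H.invol.exists_trace_eq ha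
theorem exists_nm {a : k} (ha : star a = a) : ∃ b : k, b * star b = a := H.exists_norm_eq ha
theorem star_comm (τ : k ≃+* k) (x : k) : τ (star x) = star (τ x) := by
  rw [← starRingEnd_apply, ← starRingEnd_apply, H.pow, H.pow, map_pow]

/-- `y ↦ star s * y - star y * s` maps onto the elements of trace zero. -/
theorem exists_im {s d : k} (hs : s ≠ 0) (hd : star d = -d) :
    ∃ y : k, star s * y - star y * s = d := by
  obtain ⟨b, hb⟩ := exists_tr H (star_one k)
  have hs' : star s ≠ 0 := star_ne_zero.2 hs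
  refine ⟨b * d / star s, ?_⟩
  simp only [star_div₀, star_mul', hd, star_star]
  field_simp
  linear_combination d * hb

/-- The form `star x * y - star y * x` is nondegenerate. -/
theorem eq_zero_of_im {x : k} (h : ∀ y : k, star x * y = star y * x) : x = 0 := by
  obtain ⟨θ, hθ⟩ := exists_star_ne H
  refine eq_zero_of_lines (s := 1) (s' := θ) (by simpa using hθ.symm) ?_ ?_
  · simpa using (h 1).symm
  · exact (h θ).symm

theorem exists_el (s u w t : k) : ∃ x : U5 k, x.s = s ∧ x.u = u ∧ x.w = w ∧ x.t = t ∧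
    (u = 0 → x.c = 0) ∧ (w = 0 → x.z = 0) := by
  obtain ⟨b, hb⟩ := exists_tr H (star_one k)
  exact ⟨⟨s, u, w, -b * (u * star u), t, -b * (w * star w),
    by simp; linear_combination (-u * star u) * hb, by simp; linear_combination (-w * star w) * hb⟩,
    rfl, rfl, rfl, rfl, fun h => by simp [h], fun h => by simp [h]⟩

theorem card_k : Nat.card k = q ^ 2 := H.card
theorem card_fix : Nat.card {l : k // star l = l} = q := H.card_fixed

theorem card_line {s : k} (hs : s ≠ 0) : Nat.card {x : k // star s * x = star x * s} = q := by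
  rw [← card_fix H]
  exact (Nat.card_congr (Equiv.ofBijective
    (fun l : {l : k // star l = l} => (⟨l * s, (mem_line_iff hs).2 ⟨l, l.2, rfl⟩⟩ :
      {x : k // star s * x = star x * s})) ⟨fun l l' e => Subtype.ext
        (mul_right_cancel₀ hs (congrArg Subtype.val e)), fun x => by
          obtain ⟨l, hl, e⟩ := (mem_line_iff hs).1 x.2
          exact ⟨⟨l, hl⟩, Subtype.ext e.symm⟩⟩)).symm

theorem card_tz : Nat.card {x : k // x + star x = 0} = q := H.card_trace_zero

/-- Counting the elements with prescribed sets of coordinates. -/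
theorem card_box (A B C D : k → Prop) (c0 : Prop) {M : Subgroup (U5 k)} (hB : c0 → ∀ u, B u → u = 0)
    (hM : ∀ x, x ∈ M ↔ A x.s ∧ B x.u ∧ C x.w ∧ (c0 → x.c = 0) ∧ D x.t) :
    Nat.card M = Nat.card {x // A x} * Nat.card {x // B x} * Nat.card {x // C x} *
      Nat.card {x // D x} * Nat.card {x : {x : k // x + star x = 0} // c0 → x.1 = 0} * q := by
  obtain ⟨b, hb⟩ := exists_tr H (star_one k)
  rw [← card_tz H]
  simp only [← Nat.card_prod]
  refine Nat.card_congr
    { toFun := fun x => (((((⟨x.1.s, ((hM _).1 x.2).1⟩, ⟨x.1.u, ((hM _).1 x.2).2.1⟩),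
        ⟨x.1.w, ((hM _).1 x.2).2.2.1⟩), ⟨x.1.t, ((hM _).1 x.2).2.2.2.2⟩),
        ⟨⟨x.1.c + b * (x.1.u * star x.1.u), by
          simp; linear_combination (x.1.u * star x.1.u) * hb⟩, fun h => by
            simp [((hM _).1 x.2).2.2.2.1 h, hB h _ ((hM _).1 x.2).2.1]⟩),
        ⟨x.1.z + b * (x.1.w * star x.1.w), by simp; linear_combination (x.1.w * star x.1.w) * hb⟩)
      invFun := fun ⟨⟨⟨⟨⟨s, u⟩, w⟩, t⟩, c⟩, z⟩ => ⟨⟨s, u, w, c.1 - b * (u * star u.1), t,
        z - b * (w * star w.1), by simp; linear_combination c.1.2 - (u.1 * star u.1) * hb,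
        by simp; linear_combination z.2 - (w.1 * star w.1) * hb⟩,
        (hM _).2 ⟨s.2, u.2, w.2, fun h => by simp [c.2 h, hB h _ u.2], t.2⟩⟩
      left_inv := fun x => by ext <;> simp
      right_inv := fun ⟨⟨⟨⟨⟨s, u⟩, w⟩, t⟩, c⟩, z⟩ => by simp }

theorem card_c1 : Nat.card {x : {x : k // x + star x = 0} // True → x.1 = 0} = 1 :=
  Nat.card_eq_one_iff_exists.2 ⟨⟨⟨0, by simp⟩, fun _ => rfl⟩, fun y => Subtype.ext (Subtype.ext (y.2 trivial))⟩

theorem card_c0 : Nat.card {x : {x : k // x + star x = 0} // False → x.1 = 0} = q := by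
  rw [Nat.card_congr (Equiv.subtypeUnivEquiv fun _ h => h.elim), card_tz H]

theorem card_k0 : Nat.card {x : k // x = 0} = 1 := by simp
theorem card_k1 : Nat.card {x : k // True} = q ^ 2 := by
  rw [Nat.card_congr (Equiv.subtypeUnivEquiv fun _ => trivial), card_k H]

theorem card_U5 : Nat.card (U5 k) = q ^ 10 := by
  rw [← card_top, card_box H (fun _ => True) (fun _ => True) (fun _ => True) (fun _ => True) False
    (by simp) (by simp), card_c0 H, card_k1 H]; ring
theorem card_Z1 : Nat.card (Z1 k) = q := by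
  rw [card_box H (· = 0) (· = 0) (· = 0) (· = 0) True (by simp) (by simp), card_c1 H, card_k0 H]; ring
theorem card_Z2 : Nat.card (Z2 k) = q ^ 3 := by
  rw [card_box H (· = 0) (· = 0) (· = 0) (fun _ => True) True (by simp) (by simp), card_c1 H,
    card_k0 H, card_k1 H]; ring
theorem card_V4 : Nat.card (V4 k) = q ^ 4 := by
  rw [card_box H (· = 0) (· = 0) (· = 0) (fun _ => True) False (by simp) (by simp), card_c0 H,
    card_k0 H, card_k1 H]; ring
theorem card_D5 : Nat.card (D5 k) = q ^ 5 := by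
  rw [card_box H (· = 0) (· = 0) (fun _ => True) (fun _ => True) True (by simp) (by simp), card_c1 H,
    card_k0 H, card_k1 H]; ring
theorem card_Z3 : Nat.card (Z3 k) = q ^ 6 := by
  rw [card_box H (· = 0) (· = 0) (fun _ => True) (fun _ => True) False (by simp) (by simp), card_c0 H,
    card_k0 H, card_k1 H]; ring
theorem card_Q1 : Nat.card (Q1 k) = q ^ 7 := by
  rw [card_box H (fun _ => True) (· = 0) (fun _ => True) (fun _ => True) True (by simp) (by simp),
    card_c1 H, card_k0 H, card_k1 H]; ring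
theorem card_Q2 : Nat.card (Q2 k) = q ^ 8 := by
  rw [card_box H (· = 0) (fun _ => True) (fun _ => True) (fun _ => True) False (by simp) (by simp),
    card_c0 H, card_k0 H, card_k1 H]; ring

theorem exists_q : ∃ n, 1 ≤ n ∧ q = p ^ n := by
  obtain ⟨r, n, -, hr, h1, h2⟩ := H.exists_prime_pow
  exact ⟨n, h1, by rwa [CharP.eq k ‹CharP k p› hr]⟩

theorem isPGroup_U5 : IsPGroup p (U5 k) := by
  obtain ⟨n, -, h⟩ := exists_q (p := p) H
  exact IsPGroup.of_card (n := n * 10) (by rw [card_U5 H, h, pow_mul])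

/-- Centralizers in `Q2` of elements outside `V4` are small. -/
theorem card_cent_le {y : U5 k} (hy : y ∉ V4 k) {C : Subgroup (U5 k)} (hC : C ≤ Q2 k)
    (h : ∀ x ∈ C, ⁅y, x⁆ = 1) : Nat.card C ≤ q ^ 5 := by
  have hs : ∀ x : C, x.1.s = 0 := fun x => hC x.2
  have hw : ∀ x : C, y.s * x.1.u = 0 := fun x => by
    simpa [hs x] using congrArg U5.w (h x x.2)
  by_cases h0 : y.s = 0
  · rw [card_eq_relIndex_mul (V4 k) C, pow_succ', ← card_V4 H]
    refine Nat.mul_le_mul ?_ (card_le_of_le inf_le_right)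
    have hc : ∀ x : C, star y.u * x.1.u = star x.1.u * y.u := fun x => by
      simpa [sub_eq_zero] using congrArg U5.c (h x x.2)
    have ht : ∀ x : C, star y.u * x.1.w = star x.1.u * y.w := fun x => by
      simpa [sub_eq_zero, h0, hs x] using congrArg U5.t (h x x.2)
    have hz : ∀ x : C, star y.w * x.1.w = star x.1.w * y.w := fun x => by
      simpa [sub_eq_zero, h0, hs x] using congrArg U5.z (h x x.2)
    by_cases hu : y.u = 0
    · have hw0 : y.w ≠ 0 := fun e => hy ⟨h0, hu, e⟩
      have hu' : ∀ x : C, x.1.u = 0 := fun x => by simpa [hu, hw0] using (ht x).symm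
      rw [← card_line H hw0]
      exact relIndex_le_card _ _ (fun x => ⟨x.1.w, hz x⟩) fun x x' e => by
        simp [hs, hu', show x.1.w = x'.1.w from congrArg Subtype.val e]
    · rw [← card_line H hu]
      refine relIndex_le_card _ _ (fun x => ⟨x.1.u, hc x⟩) fun x x' e => ?_
      have e1 : x.1.u = x'.1.u := congrArg Subtype.val e
      have e2 : x.1.w = x'.1.w := mul_left_cancel₀ (star_ne_zero.2 hu) (by rw [ht, ht, e1])
      simp [hs, e1, e2]
  · have hu : ∀ x : C, x.1.u = 0 := fun x => (mul_eq_zero.1 (hw x)).resolve_left h0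
    rw [card_eq_relIndex_mul (Z2 k) C, show q ^ 5 = q ^ 2 * q ^ 3 by ring, ← card_Z2 H, ← card_k H]
    refine Nat.mul_le_mul (relIndex_le_card _ _ (fun x => x.1.w) fun x x' e => ?_)
      (card_le_of_le inf_le_right)
    have ht : ∀ x : C, star y.u * x.1.w + x.1.c * y.s = 0 := fun x => by
      simpa [hs x, hu x] using congrArg U5.t (h x x.2)
    have e2 : x.1.c = x'.1.c := mul_right_cancel₀ h0 (by
      linear_combination ht x - ht x' - star y.u * e)
    simp [hs, hu, e2, show x.1.w = x'.1.w from e]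

end Cfsg.Agent.UF
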