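import Mathlib
import Cfsg.Agent.UF.Card

/-! Groups acting on the lines of `k²`. -/

set_option autoImplicit false
set_option linter.unusedSectionVars false
set_option linter.unusedVariables false

namespace Cfsg.Agent.UF

open Subgroup Cfsg.FusionSystem Cfsg.Agent.Fus Cfsg.Agent.Cl Cfsg.Agent.Oc
open scoped commutatorElement

universe u

variable {k : Type u} [Field k] [StarRing k] [Finite k] {p q : ℕ} [Fact p.Prime] [CharP k p]

theorem linV_inv_apply (g : AA (k × k)) (v : k × k) : g (g⁻¹ v) = v := g.apply_symm_apply v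

theorem linV_apply_inv (g : AA (k × k)) (v : k × k) : g⁻¹ (g v) = v := g.symm_apply_apply v

theorem linV_aV_inv (s : k) (v : k × k) : (aV s)⁻¹ v = (v.1 - s * v.2, v.2) := rfl

theorem linV_nV_inv (v : k × k) : (nV : AA (k × k))⁻¹ v = (-v.2, v.1) := rfl

/-- an element moving the line `C` can be adjusted to map `C` into `C⁻` -/
theorem linV_adj {X : Subgroup (AA (k × k))}
    (hL : ∀ g ∈ X, ∀ (v : k × k) (l : k), ∃ m : k, g (l • v) = m • g v)
    {g : AA (k × k)} (hg : g ∈ X) (h : ∃ w, (g (w, 0)).2 ≠ 0) :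
    ∃ s, ∀ w, ((aV s)⁻¹ (g (w, 0))).1 = 0 := by
  obtain ⟨w0, hw0⟩ := h
  have key : ∀ w : k, ∃ m : k, g (w, 0) = m • g (1, 0) := fun w => by
    obtain ⟨m, hm⟩ := hL g hg (1, 0) w
    exact ⟨m, by simpa using hm⟩
  have hb : (g (1, 0)).2 ≠ 0 := by
    intro h0
    obtain ⟨m, hm⟩ := key w0
    exact hw0 (by rw [hm]; simp [h0])
  refine ⟨(g (1, 0)).1 / (g (1, 0)).2, fun w => ?_⟩
  obtain ⟨m, hm⟩ := key w
  rw [linV_aV_inv, hm]
  simp only [Prod.smul_fst, Prod.smul_snd, smul_eq_mul]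
  field_simp
  ring

/-- the opposite transvections lie in `X` -/
theorem linV_low {X : Subgroup (AA (k × k))} (hA : ∀ s, aV s ∈ X)
    (hL : ∀ g ∈ X, ∀ (v : k × k) (l : k), ∃ m : k, g (l • v) = m • g v)
    (hne : ∃ g ∈ X, ∃ w, (g (w, 0)).2 ≠ 0) (t : k) :
    ∃ x ∈ X, ∀ v : k × k, x v = (v.1, v.2 + t * v.1) := by
  obtain ⟨g, hg, h⟩ := hne
  obtain ⟨s, hs⟩ := linV_adj hL hg h
  set g0 : AA (k × k) := (aV s)⁻¹ * g with hg0
  have hg0X : g0 ∈ X := X.mul_mem (X.inv_mem (hA s)) hg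
  have h1 : ∀ w, (g0 (w, 0)).1 = 0 := hs
  have hsnd : ∀ u : k, (g0⁻¹ (1, u)).2 ≠ 0 := by
    intro u h0
    have e : g0⁻¹ (1, u) = ((g0⁻¹ (1, u)).1, 0) := Prod.ext rfl h0
    have := h1 (g0⁻¹ (1, u)).1
    rw [← e, linV_inv_apply] at this
    exact one_ne_zero this
  have hβ : (g0 (1, 0)).2 ≠ 0 := by
    intro h0
    have e : g0 (1, 0) = 0 := Prod.ext (h1 1) h0
    have : ((1, 0) : k × k) = 0 := by
      rw [← linV_apply_inv g0 (1, 0), e, map_zero]
    exact one_ne_zero (congrArg Prod.fst this)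
  set y0 := g0⁻¹ (1, 0) with hy0
  set y1 := g0⁻¹ (1, t) with hy1
  have b0 : y0.2 ≠ 0 := hsnd 0
  have b1 : y1.2 ≠ 0 := hsnd t
  set c : k := y1.1 / y1.2 - y0.1 / y0.2 with hc
  have hxX : g0 * aV c * g0⁻¹ ∈ X := X.mul_mem (X.mul_mem hg0X (hA c)) (X.inv_mem hg0X)
  set x := g0 * aV c * g0⁻¹ with hx
  have hxv : ∀ v, x v = g0 (aV c (g0⁻¹ v)) := fun v => rfl
  have hfst : ∀ v, (x v).1 = v.1 := by
    intro v
    have e : aV c (g0⁻¹ v) = g0⁻¹ v + (c * (g0⁻¹ v).2, 0) := by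
      rw [aV_apply]; ext <;> simp
    rw [hxv, e, map_add, linV_inv_apply, Prod.fst_add, h1, add_zero]
  have h10 : x (1, 0) = (1, t) := by
    have e : aV c y0 = (y0.2 / y1.2) • y1 := by
      rw [aV_apply]
      ext
      · simp only [Prod.smul_fst, smul_eq_mul, hc]; field_simp; ring
      · simp only [Prod.smul_snd, smul_eq_mul]; field_simp
    obtain ⟨m, hm⟩ := hL g0 hg0X y1 (y0.2 / y1.2)
    have e2 : x (1, 0) = m • ((1, t) : k × k) := by
      rw [hxv, ← hy0, e, hm, hy1, linV_inv_apply]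
    have e3 := hfst (1, 0)
    rw [e2] at e3 ⊢
    have : m = 1 := by simpa using e3
    rw [this, one_smul]
  have hw0 : ∀ w : k, x (w, 0) = (w, t * w) := by
    intro w
    obtain ⟨m, hm⟩ := hL x hxX (1, 0) w
    have e2 : x (w, 0) = m • ((1, t) : k × k) := by rw [← h10, ← hm]; simp
    have e3 := hfst (w, 0)
    rw [e2] at e3 ⊢
    have : m = w := by simpa using e3
    rw [this]; ext <;> simp [mul_comm]
  have h0u : ∀ u : k, x (0, u) = (0, u) := by
    intro u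
    obtain ⟨l, hl⟩ := hL g0⁻¹ (X.inv_mem hg0X) (g0 (1, 0)) (u / (g0 (1, 0)).2)
    have e : (u / (g0 (1, 0)).2) • g0 (1, 0) = (0, u) := by
      ext
      · simp [h1]
      · simp only [Prod.smul_snd, smul_eq_mul]; field_simp
    rw [e, linV_apply_inv] at hl
    have e2 : aV c (g0⁻¹ (0, u)) = g0⁻¹ (0, u) := by
      rw [hl, aV_apply]; ext <;> simp
    rw [hxv, e2, linV_inv_apply]
  refine ⟨x, hxX, fun v => ?_⟩
  have e : v = (v.1, 0) + (0, v.2) := by ext <;> simp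
  conv_lhs => rw [e, map_add, hw0, h0u]
  ext <;> simp [add_comm]

theorem linV_n {X : Subgroup (AA (k × k))} (hA : ∀ s, aV s ∈ X)
    (hL : ∀ g ∈ X, ∀ (v : k × k) (l : k), ∃ m : k, g (l • v) = m • g v)
    (hne : ∃ g ∈ X, ∃ w, (g (w, 0)).2 ≠ 0) (m : k) (hm : m ≠ 0) :
    ∃ n ∈ X, ∀ v : k × k, n v = (m * v.2, -(m⁻¹ * v.1)) := by
  obtain ⟨x, hx, hxv⟩ := linV_low hA hL hne (-m⁻¹)
  refine ⟨aV m * x * aV m, X.mul_mem (X.mul_mem (hA m) hx) (hA m), fun v => ?_⟩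
  have e : (aV m * x * aV m) v = aV m (x (aV m v)) := rfl
  rw [e, hxv, aV_apply, aV_apply]
  ext
  · simp only; field_simp; ring
  · simp only; field_simp; ring

theorem linV {X : Subgroup (AA (k × k))} {K : Subgroup (Sd k)} (hA : ∀ s, aV s ∈ X)
    (hL : ∀ g ∈ X, ∀ (v : k × k) (l : k), ∃ m : k, g (l • v) = m • g v)
    (hN : ∀ g ∈ X, (∀ w, (g (w, 0)).2 = 0) → ∃ s, ∃ γ ∈ K, g = aV s * dV γ)
    (hne : ∃ g ∈ X, ∃ w, (g (w, 0)).2 ≠ 0) :
    (∀ m (hm : m ≠ 0), Sd.tor2 m hm ∈ K) ∧ nV ∈ X ∧ ∀ g ∈ X, (∀ w, (g (w, 0)).2 = 0) ∨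
      ∃ s, ∀ w, (((aV s * nV)⁻¹ * g) (w, 0)).2 = 0 := by
  refine ⟨fun m hm => ?_, ?_, fun g hg => ?_⟩
  · obtain ⟨n, hn, hnv⟩ := linV_n hA hL hne m hm
    obtain ⟨n', hn', hnv'⟩ := linV_n hA hL hne (-1) (neg_ne_zero.2 one_ne_zero)
    have hd : ∀ v : k × k, (n * n') v = (m * v.1, m⁻¹ * v.2) := by
      intro v
      have e : (n * n') v = n (n' v) := rfl
      rw [e, hnv, hnv']
      ext <;> simp
    obtain ⟨s, γ, hγ, he⟩ := hN _ (X.mul_mem hn hn') (fun w => by rw [hd]; simp)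
    have hv : ∀ v : k × k, (m * v.1, m⁻¹ * v.2) = aV s (dV γ v) := fun v => by
      rw [← hd, he]; rfl
    have hb : γ.b = m⁻¹ := by
      have := congrArg Prod.snd (hv (0, 1))
      simpa using this.symm
    have hab : γ.a * γ.b = m := by
      have := congrArg Prod.fst (hv (1, 0))
      simpa using this.symm
    have ha : γ.a = m ^ 2 := by
      rw [hb] at hab
      field_simp at hab
      rw [hab]
    have hτ : ∀ u, γ.τ u = u := by
      intro u
      have := congrArg Prod.snd (hv (0, u))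
      simp only [aV_apply, dV_apply, hb] at this
      exact (mul_left_cancel₀ (inv_ne_zero hm) this).symm
    have : γ = Sd.tor2 m hm := Sd.ext ha hb (RingEquiv.ext hτ)
    exact this ▸ hγ
  · obtain ⟨n, hn, hnv⟩ := linV_n hA hL hne 1 one_ne_zero
    have : n = nV := LinearEquiv.ext fun v => by rw [hnv, nV_apply]; simp
    exact this ▸ hn
  · by_cases h : ∃ w, (g (w, 0)).2 ≠ 0
    · obtain ⟨s, hs⟩ := linV_adj hL hg h
      refine Or.inr ⟨s, fun w => ?_⟩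
      have e : ((aV s * nV)⁻¹ * g) (w, 0) = nV⁻¹ ((aV s)⁻¹ (g (w, 0))) := by
        rw [mul_inv_rev]; rfl
      rw [e, linV_nV_inv]
      exact hs w
    · push Not at h
      exact Or.inl h

end Cfsg.Agent.UF
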