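import Mathlib
import Cfsg.Agent.UF.LinV
import Cfsg.Agent.UF.Ext

/-! The automizer of `Q2`. -/

set_option autoImplicit false
set_option linter.unusedSectionVars false
set_option linter.unusedVariables false

namespace Cfsg.Agent.UF

open Subgroup Cfsg.FusionSystem Cfsg.Agent.Fus Cfsg.Agent.Cl Cfsg.Agent.Oc
open scoped commutatorElement

universe u

variable {k : Type u} [Field k] [StarRing k] [Finite k] {p q : ℕ} [Fact p.Prime] [CharP k p]

namespace Br2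

theorem exists_nu (H : UField (starRingEnd k) q) : ∃ v : k, v ≠ 0 ∧ v ^ 3 ≠ star v ^ 2 := by
  by_contra h
  push Not at h
  have h1 : ∀ v : k, v ≠ 0 → star v = v → v = 1 := fun v h0 hv => by
    have := h v h0
    rw [hv] at this
    exact mul_left_cancel₀ (pow_ne_zero 2 h0) (by linear_combination this)
  obtain ⟨θ, hθ⟩ := exists_star_ne H
  have h0 : θ ≠ 0 := by rintro rfl; exact hθ (star_zero _)
  have h2 : (-1 : k) = 1 := h1 _ (by simp) (by simp)
  have h3 : θ * star θ = 1 := h1 _ (mul_ne_zero h0 (star_ne_zero.2 h0)) (by simp [mul_comm])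
  have h4 : θ + star θ = 1 :=
    h1 _ (fun e => hθ (by linear_combination e + θ * h2)) (by simp [add_comm])
  have h5 := h θ h0
  have h6 : (star θ - 1) ^ 2 = 0 := by
    linear_combination -h5 + (θ ^ 2 + θ) * h4 - (θ + 1) * h3 + (star θ + θ - 1 + θ) * h2 -
      (θ + 1 - 1) * h2 - h4 * 0 + (1 - star θ - θ) * h2 + star θ * h2
  have h7 : star θ = 1 := sub_eq_zero.1 (pow_eq_zero_iff two_ne_zero |>.1 h6)
  exact hθ (by rw [h7]; rw [h7, mul_one] at h3; exact h3.symm)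

/-- The cocycle computation. -/
theorem alg (H : UField (starRingEnd k) q) (φ : k × k →+ k × k × k) {m α β : k}
    (hm : m * star m = 1) (hm1 : m ≠ 1) (hαβ : α * star β = 1) (hα : α ≠ 1) (hβ : β ≠ 1)
    {w1 u1 w2 u2 : k}
    (c1 : ∀ w u, (φ (star m * w, m * u)).1 =
      (φ (w, u)).1 - star u1 * (star m * w) + m * star w * u1)
    (z1 : ∀ w u, (φ (star m * w, m * u)).2.2 =
      (φ (w, u)).2.2 + star w1 * (m * u) - star m * star u * w1)
    (c2 : ∀ w u, (φ (β * w, α * u)).1 =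
      β * star β * (φ (w, u)).1 - star u2 * (β * w) + star β * star w * u2)
    (t2 : ∀ w u, (φ (β * w, α * u)).2.1 =
      (φ (w, u)).2.1 + star u2 * (α * u) + star β * star w * w2)
    (z2 : ∀ w u, (φ (β * w, α * u)).2.2 =
      α * star α * (φ (w, u)).2.2 + star w2 * (α * u) - star α * star u * w2) :
    ∃ w0 u0 : k, ∀ w u, φ (w, u) =
      (star w * u0 - star u0 * w, star u0 * u + star w * w0, star w0 * u - star u * w0) := by
  have n1 : m - 1 ≠ 0 := sub_ne_zero.2 hm1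
  have n2 : star m - 1 ≠ 0 := by rw [← star_one k, ← star_sub]; exact star_ne_zero.2 n1
  have n3 : α - 1 ≠ 0 := sub_ne_zero.2 hα
  have n4 : β - 1 ≠ 0 := sub_ne_zero.2 hβ
  have n5 : star β - 1 ≠ 0 := by rw [← star_one k, ← star_sub]; exact star_ne_zero.2 n4
  have a0 : α ≠ 0 := left_ne_zero_of_mul_eq_one hαβ
  have b0 : β ≠ 0 := star_ne_zero.1 (right_ne_zero_of_mul_eq_one hαβ)
  have sub : ∀ a b w u : k, a - 1 ≠ 0 → b - 1 ≠ 0 → φ (w, u) =
      φ (a * (w / (a - 1)), b * (u / (b - 1))) - φ (w / (a - 1), u / (b - 1)) := fun a b w u ha hb => by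
    rw [← map_sub]; congr 1; ext <;> simp <;> field_simp
  have c0 : ∀ w u, (φ (w, u)).1 =
      star w * (u1 * m / (m - 1)) - star (u1 * m / (m - 1)) * w := fun w u => by
    rw [sub _ _ w u n2 n1, Prod.fst_sub, c1]
    simp only [star_div₀, star_mul, star_sub, star_one, star_star]
    field_simp; ring
  have z0 : ∀ w u, (φ (w, u)).2.2 = star (w1 * star m / (star m - 1)) * u -
      star u * (w1 * star m / (star m - 1)) := fun w u => by
    rw [sub _ _ w u n2 n1, Prod.snd_sub, Prod.snd_sub, z1]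
    simp only [star_div₀, star_mul, star_sub, star_one, star_star]
    field_simp; ring
  generalize u1 * m / (m - 1) = u0 at c0
  generalize w1 * star m / (star m - 1) = w0 at z0
  have eu : u0 - β * u0 - u2 = 0 := eq_zero_of_im H fun y => by
    have := c2 (y / β) 0
    rw [c0, c0, mul_div_cancel₀ _ b0] at this
    have b1 : star β ≠ 0 := star_ne_zero.2 b0
    simp only [star_div₀, star_mul, star_sub] at this ⊢
    field_simp at this
    linear_combination -this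
  have ew : w0 - α * w0 - w2 = 0 := eq_zero_of_im H fun y => by
    have := z2 0 (y / α)
    rw [z0, z0, mul_div_cancel₀ _ a0] at this
    have b1 : star α ≠ 0 := star_ne_zero.2 a0
    simp only [star_div₀, star_mul, star_sub] at this ⊢
    field_simp at this
    linear_combination this
  obtain rfl : u2 = u0 - β * u0 := by linear_combination -eu
  obtain rfl : w2 = w0 - α * w0 := by linear_combination -ew
  refine ⟨w0, u0, fun w u => Prod.ext (c0 w u) (Prod.ext ?_ (z0 w u))⟩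
  rw [sub _ _ w u n4 n3, Prod.snd_sub, Prod.fst_sub, t2]
  simp only [star_div₀, star_mul, star_sub, star_one]
  field_simp
  linear_combination (-(star u0 * u * (star β - 1)) - star w * w0 * (α - 1)) * hαβ

theorem lines (H : UField (starRingEnd k) q) {w u w' u' : k} (h0 : (w, u) ≠ 0)
    (h : ∀ a b : k, ∃ a' b' : k, star u' * b - star b * u' = star u * b' - star b' * u ∧
      star u' * a - star b * w' = star u * a' - star b' * w ∧
      star w' * a - star a * w' = star w * a' - star a' * w) : ∃ m : k, (w', u') = m • (w, u) := by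
  have key : ∀ a b : k, star (w * u' - u * w') * (w * b - u * a) =
      star (w * b - u * a) * (w * u' - u * w') := fun a b => by
    obtain ⟨a', b', e1, e2, e3⟩ := h a b
    have e4 := congrArg star e2
    simp only [star_mul, star_sub, star_star] at e4 ⊢
    linear_combination (w * star w) * e1 - (star w * u) * e2 + (star u * w) * e4 + (u * star u) * e3
  have e : w * u' - u * w' = 0 := eq_zero_of_im H fun y => by
    by_cases hw : w = 0
    · have hu : u ≠ 0 := fun hu => h0 (by rw [hw, hu]; rfl)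
      have := key (-y / u) 0
      rwa [show w * 0 - u * (-y / u) = y by field_simp; ring] at this
    · have := key 0 (y / w)
      rwa [show w * (y / w) - u * 0 = y by field_simp; ring] at this
  by_cases hw : w = 0
  · have hu : u ≠ 0 := fun hu => h0 (by rw [hw, hu]; rfl)
    refine ⟨u' / u, Prod.ext ?_ (by simp [hu])⟩
    rw [hw, zero_mul, zero_sub, neg_eq_zero, mul_eq_zero] at e
    simp [hw, e.resolve_left hu]
  · refine ⟨w' / w, Prod.ext (by simp [hw]) ?_⟩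
    simp only [Prod.smul_mk, smul_eq_mul]
    field_simp
    linear_combination e

theorem exists_co (H : UField (starRingEnd k) q) (v : k × k) : ∃ x ∈ Q2 k, (x.w, x.u) = v := by
  obtain ⟨x, h1, h2, h3, -⟩ := exists_el H 0 v.2 v.1 0
  exact ⟨x, h1, Prod.ext h3 h2⟩

theorem exists_cm (H : UField (starRingEnd k) q) {x : U5 k} (hx : x ∈ V4 k) :
    ∃ a ∈ Q2 k, ∃ b ∈ Q2 k, ∃ c ∈ Q2 k, ∃ d ∈ Q2 k, ∃ e ∈ Q2 k, x = ⁅a, b⁆ * ⁅a, c⁆ * ⁅d, e⁆ := by
  obtain ⟨h1, h2, h3⟩ := hx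
  obtain ⟨y, hy⟩ := exists_im H (s := 1) (d := x.c) one_ne_zero (by simp [h2])
  obtain ⟨y', hy'⟩ := exists_im H (s := 1) (d := x.z) one_ne_zero (by simp [h3])
  obtain ⟨a, a1, a2, a3, -⟩ := exists_el H 0 1 0 0
  obtain ⟨b, b1, b2, b3, -⟩ := exists_el H 0 y 0 0
  obtain ⟨c, c1, c2, c3, -⟩ := exists_el H 0 0 x.t 0
  obtain ⟨d, d1, d2, d3, -⟩ := exists_el H 0 0 1 0
  obtain ⟨e, e1, e2, e3, -⟩ := exists_el H 0 0 y' 0
  refine ⟨a, a1, b, b1, c, c1, d, d1, e, e1, ?_⟩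
  rw [star_one] at hy hy'
  ext <;> simp [*, -U5.star_c, -U5.star_z]
  · linear_combination -hy
  · linear_combination -hy'

theorem V4_le_Fr (H : UField (starRingEnd k) q) : V4 k ≤ Fr p (Q2 k) := fun x hx => by
  obtain ⟨a, ha, b, hb, c, hc, d, hd, e, he, rfl⟩ := exists_cm H hx
  exact mul_mem (mul_mem (cm_Fr ha hb) (cm_Fr ha hc)) (cm_Fr hd he)

/-- Additive functions on `Q2` factor through `(w, u)`. -/
theorem exists_factor (H : UField (starRingEnd k) q) {A : Type*} [AddCommGroup A] {E : U5 k → A}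
    (hE : ∀ x ∈ Q2 k, ∀ y ∈ Q2 k, E (x * y) = E x + E y) :
    ∃ φ : k × k →+ A, ∀ x ∈ Q2 k, E x = φ (x.w, x.u) := by
  have hm : MulOn (Q2 k) fun x => Multiplicative.ofAdd (E x) := fun x hx y hy =>
    congrArg Multiplicative.ofAdd (hE x hx y hy)
  have hc : ∀ a ∈ Q2 k, ∀ b ∈ Q2 k, E ⁅a, b⁆ = 0 := fun a ha b hb => by
    exact ofAdd_eq_one.1 ((hm.map_commutatorElement ha hb).trans
      (commutatorElement_eq_one_iff_mul_comm.2 (mul_comm _ _)))
  have h0 : ∀ x ∈ V4 k, E x = 0 := fun x hx => by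
    obtain ⟨a, ha, b, hb, c, hc', d, hd, e, he, rfl⟩ := exists_cm H hx
    rw [hE _ (mul_mem (cm_mem ha hb) (cm_mem ha hc')) _ (cm_mem hd he),
      hE _ (cm_mem ha hb) _ (cm_mem ha hc'), hc a ha b hb, hc a ha c hc', hc d hd e he, add_zero,
      add_zero]
  have h1 : ∀ x ∈ Q2 k, ∀ y ∈ Q2 k, (x.w, x.u) = (y.w, y.u) → E y = E x := fun x hx y hy e => by
    obtain ⟨e1, e2⟩ := Prod.mk.inj e
    have hv : x⁻¹ * y ∈ V4 k := by
      rw [mem_Q2] at hx hy
      simp [hx, hy, e1, e2]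
    rw [← mul_inv_cancel_left x y, hE x hx _ (mul_mem (inv_mem hx) hy), h0 _ hv, add_zero]
  choose σ hσ eσ using exists_co H
  refine ⟨AddMonoidHom.mk' (fun v => E (σ v)) fun v v' => ?_, fun x hx => h1 _ (hσ _) x hx (eσ _)⟩
  rw [← hE _ (hσ v) _ (hσ v')]
  refine h1 _ (mul_mem (hσ v) (hσ v')) _ (hσ _) ?_
  rw [eσ, U5.mul_w, U5.mul_u, mem_Q2.1 (hσ _), zero_mul, add_zero, ← Prod.mk_add_mk, eσ, eσ]

variable {F : FusionSystem (⊤ : Subgroup (U5 k))}

theorem co_mul {x y : U5 k} (hx : x ∈ Q2 k) : ((x * y).w, (x * y).u) = (x.w, x.u) + (y.w, y.u) := by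
  simp [mem_Q2.1 hx]

theorem exists_bar (H : UField (starRingEnd k) q) {f : U5 k → U5 k} (hf : F.Iso (Q2 k) (Q2 k) f) :
    ∃ g : AA (k × k), ∀ x ∈ Q2 k, ((f x).w, (f x).u) = g (x.w, x.u) := by
  obtain ⟨φ, hφ⟩ := exists_factor H (E := fun x => ((f x).w, (f x).u)) fun x hx y hy => by
    rw [hf.mor.map_mul hx hy, co_mul (hf.maps x hx)]
  have hs : Function.Surjective φ := fun v => by
    obtain ⟨y, hy, rfl⟩ := exists_co H v
    obtain ⟨x, hx, rfl⟩ := hf.surj y hy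
    exact ⟨_, (hφ x hx).symm⟩
  exact ⟨(AddEquiv.ofBijective φ hs.bijective_of_finite).toIntLinearEquiv, hφ⟩

/-- The image of the automizer of `Q2` on `Q2 / V4`. -/
def XV (F : FusionSystem (⊤ : Subgroup (U5 k))) : Subgroup (AA (k × k)) where
  carrier := {g | ∃ f, F.Iso (Q2 k) (Q2 k) f ∧ ∀ x ∈ Q2 k, ((f x).w, (f x).u) = g (x.w, x.u)}
  one_mem' := ⟨_, F.iso_id le_top, fun _ _ => rfl⟩
  mul_mem' := by
    rintro g g' ⟨f, hf, e⟩ ⟨f', hf', e'⟩
    exact ⟨_, hf.comp hf', fun x hx => by rw [e _ (hf'.maps x hx), e' x hx]; rfl⟩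
  inv_mem' := by
    rintro g ⟨f, hf, e⟩
    obtain ⟨f', hf', -, h2⟩ := hf.inv
    refine ⟨f', hf', fun x hx => g.injective ?_⟩
    rw [← e _ (hf'.maps x hx), h2 x hx]
    exact (g.apply_symm_apply _).symm

theorem conj_Q2 (g : U5 k) {x : U5 k} (hx : x ∈ Q2 k) : g * x * g⁻¹ ∈ Q2 k := by
  simp [mem_Q2.1 hx]

theorem iso_conj' (g : U5 k) : F.Iso (Q2 k) (Q2 k) fun x => g * x * g⁻¹ :=
  (F.mor_conj le_top (mem_top g)).iso_self fun _ hx => conj_Q2 g hx

theorem co_conj (g : U5 k) {x : U5 k} (hx : x ∈ Q2 k) :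
    ((g * x * g⁻¹).w, (g * x * g⁻¹).u) = aV g.s (x.w, x.u) := by
  ext <;> simp [mem_Q2.1 hx]
  ring

theorem iso_ap {γ : Sd k} (h : γ ∈ KF F) : F.Iso (Q2 k) (Q2 k) γ.ap :=
  ((mem_KF F).1 h).mono le_top |>.iso_self fun x hx => by simp [mem_Q2.1 hx]

theorem aV_mem (H : UField (starRingEnd k) q) (s : k) : aV s ∈ XV F := by
  obtain ⟨g, rfl, -⟩ := exists_el H s 0 0 0
  exact ⟨_, iso_conj' g, fun x hx => co_conj g hx⟩

theorem XV_lines (H : UField (starRingEnd k) q) {g : AA (k × k)} (hg : g ∈ XV F) (v : k × k) (l : k) :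
    ∃ m : k, g (l • v) = m • g v := by
  obtain ⟨f, hf, e⟩ := hg
  by_cases h0 : v = 0
  · exact ⟨0, by simp [h0]⟩
  obtain ⟨x, hx, rfl⟩ := exists_co H v
  obtain ⟨x', hx', e'⟩ := exists_co H (l • (x.w, x.u))
  rw [← e', ← e x hx, ← e x' hx']
  refine lines H (by rw [e x hx]; exact fun h => h0 (g.map_eq_zero_iff.1 h)) fun a b => ?_
  obtain ⟨y, hy, ey⟩ := exists_co H (a, b)
  obtain ⟨y, hy0, rfl⟩ := hf.surj y hy
  obtain ⟨y', hy', ey'⟩ := exists_co H (star l • (y.w, y.u))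
  have hc : ⁅x', y⁆ = ⁅x, y'⁆ := by
    simp only [Prod.smul_mk, smul_eq_mul, Prod.mk.injEq] at e' ey'
    rw [mem_Q2] at hx hx' hy0 hy'
    ext <;> simp [hx, hx', hy0, hy', e', ey'] <;> ring
  have hc' := congrArg f hc
  rw [hf.mor.mulOn.map_commutatorElement hx' hy0, hf.mor.mulOn.map_commutatorElement hx hy'] at hc'
  obtain ⟨rfl, rfl⟩ := Prod.mk.inj ey
  have s1 := mem_Q2.1 (hf.maps x hx)
  have s2 := mem_Q2.1 (hf.maps x' hx')
  have s3 := mem_Q2.1 (hf.maps y' hy')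
  rw [mem_Q2] at hy
  exact ⟨(f y').w, (f y').u, by simpa using congrArg U5.c hc',
    by simpa [s1, s2, s3, hy] using congrArg U5.t hc',
    by simpa [s1, s2, s3, hy] using congrArg U5.z hc'⟩

theorem ext_of_keep (H : UField (starRingEnd k) q) (hF : F.IsSaturated p) {f : U5 k → U5 k}
    (hf : F.Iso (Q2 k) (Q2 k) f) {g : AA (k × k)}
    (e : ∀ x ∈ Q2 k, ((f x).w, (f x).u) = g (x.w, x.u)) (hg : ∀ w, (g (w, 0)).2 = 0) :
    ∃ g, F.Mor ⊤ g ∧ ∀ x ∈ Q2 k, f x = g x := by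
  refine ext_of_chain (isPGroup_U5 H) hF (fun i => if i = 0 then Q2 k else if i = 1 then Z3 k else V4 k)
    2 rfl (V4_le_Fr H) (fun i hi => ?_) (fun g x hx => conj_Q2 g hx) (fun i hi g x hx => ?_)
    (fun i hi g x hx => ?_) hf fun i hi x hx => ?_
  · interval_cases i
    · exact fun x hx => hx.1
    · exact fun x hx => ⟨hx.1, hx.2.1⟩
  · interval_cases i
    · exact ⟨U5.cm_s _ _, U5.cm_u _ _⟩
    · replace hx : x ∈ Z3 k := hx
      show _ ∈ V4 k
      simp [hx.1, hx.2]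
  · interval_cases i
    · exact conj_Q2 g hx
    · replace hx : x ∈ Z3 k := hx
      show _ ∈ Z3 k
      simp [hx.1, hx.2]
    · replace hx : x ∈ V4 k := hx
      show _ ∈ V4 k
      simp [hx.1, hx.2.1, hx.2.2]
  · interval_cases i
    · exact hf.maps x hx
    · replace hx : x ∈ Z3 k := hx
      have := congrArg Prod.snd (e x hx.1)
      rw [hx.2, hg] at this
      exact ⟨hf.maps x hx.1, this⟩
    · replace hx : x ∈ V4 k := hx
      have := e x hx.1
      rw [hx.2.1, hx.2.2, Prod.mk_zero_zero, map_zero] at this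
      exact ⟨hf.maps x hx.1, congrArg Prod.snd this, congrArg Prod.fst this⟩

theorem tor_eq {l m : k} (hl : l ≠ 0) (hm : m ≠ 0) {a b : k} (ha : a ≠ 0) (hb : b ≠ 0)
    (ea : a = m ^ 2 / l) (eb : b = l ^ 2 / (star l * m)) :
    Sd.tor a b ha hb = Sd.tor2 m hm * Sd.tor1 l hl := by
  refine Sd.ext ?_ ?_ rfl
  · simp [ea, div_eq_mul_inv]
  · simp only [Sd.tor_b, eb, Sd.mul_b, Sd.tor_τ]; field_simp

/-- The basic equation for a lift of the Weyl element. -/
theorem eqn (H : UField (starRingEnd k) q) (hE : F.IsEssential p (Q2 k)) {f : U5 k → U5 k}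
    (hf : F.Iso (Q2 k) (Q2 k) f) (e : ∀ x ∈ Q2 k, ((f x).w, (f x).u) = (x.u, -x.w))
    {φ : k × k →+ k × k × k} (hφ : ∀ x ∈ Q2 k,
      ((f x).c - (n2 x).c, (f x).t - (n2 x).t, (f x).z - (n2 x).z) = φ (x.w, x.u))
    {α β : k} (hα : α ≠ 0) (hβ : β ≠ 0) (h1 : Sd.tor (α / β) β (div_ne_zero hα hβ) hβ ∈ KF F)
    (h2 : Sd.tor (β / α) α (div_ne_zero hβ hα) hα ∈ KF F) : ∃ w0 u0 : k, ∀ w u, φ (β * w, α * u) =
      (β * star β * (φ (w, u)).1 - star u0 * (β * w) + star β * star w * u0,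
        α * star β * (φ (w, u)).2.1 + star u0 * (α * u) + star β * star w * w0,
        α * star α * (φ (w, u)).2.2 + star w0 * (α * u) - star α * star u * w0) := by
  set δ := Sd.tor (α / β) β (div_ne_zero hα hβ) hβ with hδ
  set γ := Sd.tor (β / α) α (div_ne_zero hβ hα) hα with hγ
  obtain ⟨f', hf', l1, l2⟩ := (iso_ap h1).comp hf |>.inv
  obtain ⟨y, hy, ey⟩ := inner_of_Fr (isPGroup_U5 H) hE ((hf.comp (iso_ap h2)).comp hf') fun x hx => by
    obtain ⟨x, hx0, rfl⟩ := ((iso_ap h1).comp hf).surj x hx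
    refine V4_le_Fr H ?_
    have m := (iso_ap h2).maps x hx0
    obtain ⟨e1, e2⟩ := Prod.mk.inj (e x hx0)
    obtain ⟨e3, e4⟩ := Prod.mk.inj (e _ m)
    have e5 := mem_Q2.1 (hf.maps _ m)
    simp only [l1 x hx0]
    generalize f (γ.ap x) = z at e3 e4 e5
    simp [mem_Q2.1 (hf.maps x hx0), e1, e2, e3, e4, e5, hδ, hγ, hα, hβ]
  refine ⟨y.w, y.u, fun w u => ?_⟩
  obtain ⟨x, hx, ex⟩ := exists_co H (w, u)
  obtain ⟨rfl, rfl⟩ := Prod.mk.inj ex
  have e0 := ey _ (((iso_ap h1).comp hf).maps x hx)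
  simp only [l1 x hx] at e0
  have m := (iso_ap h2).maps x hx
  have := hφ _ m
  rw [e0, show ((γ.ap x).w, (γ.ap x).u) = (β * x.w, α * x.u) by simp [hγ, hα]] at this
  obtain ⟨e1, e2⟩ := Prod.mk.inj (e x hx)
  have b1 : star β ≠ 0 := star_ne_zero.2 hβ
  have a1 : star α ≠ 0 := star_ne_zero.2 hα
  rw [← this, ← hφ x hx]
  ext <;> simp [mem_Q2.1 (hf.maps x hx), mem_Q2.1 hy, e1, e2, hδ, hγ, n2] <;>
    field_simp <;> ring

theorem n2_mor (H : UField (starRingEnd k) q) (hE : F.IsEssential p (Q2 k))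
    (h1 : ∀ l (hl : l ≠ 0), Sd.tor1 l hl ∈ KF F) (h2 : ∀ m (hm : m ≠ 0), Sd.tor2 m hm ∈ KF F)
    (hn : nV ∈ XV F) : F.Mor (Q2 k) n2 := by
  obtain ⟨f, hf, e⟩ := hn
  replace e : ∀ x ∈ Q2 k, ((f x).w, (f x).u) = (x.u, -x.w) := e
  obtain ⟨φ, hφ⟩ := exists_factor H (E := fun x =>
    ((f x).c - (n2 x).c, (f x).t - (n2 x).t, (f x).z - (n2 x).z)) fun x hx y hy => by
      obtain ⟨e1, e2⟩ := Prod.mk.inj (e x hx)
      obtain ⟨e3, e4⟩ := Prod.mk.inj (e y hy)
      rw [hf.mor.map_mul hx hy, n2_mul hx hy]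
      ext <;> simp [mem_Q2.1 (hf.maps x hx), e1, e2, e3, e4, n2] <;> ring
  have ht : ∀ {l m : k} (hl : l ≠ 0) (hm : m ≠ 0) {a b : k} (ha : a ≠ 0) (hb : b ≠ 0),
      a = m ^ 2 / l → b = l ^ 2 / (star l * m) → Sd.tor a b ha hb ∈ KF F :=
    fun hl hm a b ha hb ea eb => tor_eq hl hm ha hb ea eb ▸ mul_mem (h2 _ hm) (h1 _ hl)
  obtain ⟨m, hm, hm'⟩ := H.invol.exists_norm_one_ne
  replace hm : m * star m = 1 := hm
  have m0 : m ≠ 0 := left_ne_zero_of_mul_eq_one hm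
  have m1 : star m = m⁻¹ := eq_inv_of_mul_eq_one_right hm
  obtain ⟨w1, u1, q1⟩ := eqn H hE hf e hφ m0 (star_ne_zero.2 m0)
    (ht one_ne_zero m0 _ _ (by rw [m1]; field_simp) (by simp [m1]))
    (ht one_ne_zero (inv_ne_zero m0) _ _ (by rw [m1]; field_simp) (by simp))
  obtain ⟨v, v0, hv⟩ := exists_nu H
  have v1 : star v ≠ 0 := star_ne_zero.2 v0
  have hαβ : v ^ 2 / star v ^ 3 * star (v ^ 3 / star v ^ 2) = 1 := by simp; field_simp
  obtain ⟨w2, u2, q2⟩ := eqn H hE hf e hφ (α := v ^ 2 / star v ^ 3) (β := v ^ 3 / star v ^ 2)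
    (by simp [v0]) (by simp [v0])
    (ht (div_ne_zero v0 v1) (inv_ne_zero v1) _ _ (by field_simp) (by simp; field_simp))
    (ht (div_ne_zero v0 v1) v0 _ _ (by field_simp) (by simp; field_simp))
  obtain ⟨w0, u0, q0⟩ := alg H φ hm (fun h => hm' (by simp [h])) hαβ
    (fun h => hv (by simpa using congrArg star ((div_eq_one_iff_eq (pow_ne_zero 3 v1)).1 h).symm))
    (fun h => hv ((div_eq_one_iff_eq (pow_ne_zero 2 v1)).1 h)) (w1 := w1) (u1 := u1) (w2 := w2)
    (u2 := u2)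
    (fun w u => by rw [q1, star_star, mul_comm (star m) m, hm, one_mul])
    (fun w u => by rw [q1, hm, one_mul]) (fun w u => by rw [q2])
    (fun w u => by rw [q2, hαβ, one_mul]) (fun w u => by rw [q2])
  obtain ⟨y, hy, ey⟩ := exists_co H (w0, u0)
  obtain ⟨rfl, rfl⟩ := Prod.mk.inj ey
  refine (hf.mor.conj_comp (mem_top y⁻¹)).congr fun x hx => ?_
  rw [inv_inv, mul_assoc, inv_mul_eq_iff_eq_mul, ← eq_mul_inv_iff_mul_eq]
  obtain ⟨e1, e2⟩ := Prod.mk.inj (e x hx)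
  have := (hφ x hx).trans (q0 _ _)
  simp only [Prod.mk.injEq, sub_eq_iff_eq_add] at this
  ext <;> simp [mem_Q2.1 (hf.maps x hx), mem_Q2.1 hy, e1, e2, this, n2] <;> ring

end Br2

open Br2

variable (H : UField (starRingEnd k) q) {F : FusionSystem (⊤ : Subgroup (U5 k))}
  (hF : F.IsSaturated p) (hS : Std F)
include H hF hS

theorem q2_main (hE : F.IsEssential p (Q2 k)) (h1 : ∀ l (hl : l ≠ 0), Sd.tor1 l hl ∈ KF F) :
    (∀ m (hm : m ≠ 0), Sd.tor2 m hm ∈ KF F) ∧ F.Mor (Q2 k) n2 ∧ Bru F (Q2 k) n2 := by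
  obtain ⟨h2, hn, hb⟩ := linV (X := XV F) (K := KF F) (aV_mem H) (fun g hg => XV_lines H hg)
    (by
      rintro g ⟨f, hf, e⟩ hg
      obtain ⟨g', hg', e'⟩ := ext_of_keep H hF hf e hg
      obtain ⟨y, γ, hγ, e''⟩ := hS g' hg'
      refine ⟨y.s, γ, hγ, LinearEquiv.ext fun v => ?_⟩
      obtain ⟨x, hx, rfl⟩ := exists_co H v
      rw [← e x hx, e' x hx, e'', co_conj y ((iso_ap hγ).maps x hx)]
      rfl)
    (by
      obtain ⟨f, hf, hne⟩ := exists_not_ext (isPGroup_U5 H) hF hE fun g x hx => conj_Q2 g hx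
      obtain ⟨g, e⟩ := exists_bar H hf
      refine ⟨g, ⟨f, hf, e⟩, by_contra fun h => hne (ext_of_keep H hF hf e fun w => ?_)⟩
      exact by_contra fun h' => h ⟨w, h'⟩)
  have hm := n2_mor H hE h1 h2 hn
  refine ⟨h2, hm, fun f hf => ?_⟩
  obtain ⟨g, e⟩ := exists_bar H hf
  rcases hb g ⟨f, hf, e⟩ with h | ⟨s, h⟩
  · obtain ⟨g', hg', e'⟩ := ext_of_keep H hF hf e h
    exact ⟨g', hg', Or.inl e'⟩
  · obtain ⟨y, rfl, -⟩ := exists_el H s 0 0 0
    obtain ⟨n', hn', -, l2⟩ := ((iso_conj' y).comp (hm.iso_self fun x _ => n2_mem x)).inv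
    obtain ⟨g', hg', e'⟩ := ext_of_keep H hF (hn'.comp hf) (g := (aV y.s * nV)⁻¹ * g)
      (fun x hx => (aV y.s * nV).injective (by
        rw [← LinearEquiv.mul_apply, mul_inv_cancel_left, ← e x hx, ← l2 _ (hf.maps x hx),
          co_conj y (n2_mem _), l2 _ (hf.maps x hx)]
        rfl)) h
    exact ⟨g', hg', Or.inr ⟨y, fun x hx => by rw [← e' x hx, l2 _ (hf.maps x hx)]⟩⟩

end Cfsg.Agent.UF
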