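import Mathlib
import Cfsg.Agent.UF.Card
import Cfsg.Agent.GT.SchurZassenhaus
import Cfsg.Agent.Fus.ToTop
import Cfsg.Agent.UF.Br2
import Cfsg.Agent.U5F.Model

/-! Automorphisms of the unipotent group. -/

set_option autoImplicit false
set_option linter.unusedSectionVars false
set_option linter.unusedVariables false

namespace Cfsg.Agent.UF

open Subgroup Cfsg.FusionSystem Cfsg.Agent.Fus Cfsg.Agent.Cl Cfsg.Agent.Oc
open scoped commutatorElement

universe u

variable {k : Type u} [Field k] [StarRing k] [Finite k] {p q : ℕ} [Fact p.Prime] [CharP k p]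

variable (H : UField (starRingEnd k) q)
include H

namespace AutU

theorem Z3_iff {x : U5 k} : x ∈ Z3 k ↔ ∀ y, ⁅x, y⁆ ∈ Z2 k := by
  refine ⟨fun h y => by simp [h.1, h.2], fun h => ?_⟩
  obtain ⟨a, a1, a2, -⟩ := exists_el H 1 0 0 0
  obtain ⟨b, b1, b2, -⟩ := exists_el H 0 1 0 0
  exact ⟨by simpa [b1, b2] using (h b).2.2.1, by simpa [a1, a2] using (h a).2.2.1⟩

theorem Z2_iff {x : U5 k} : x ∈ Z2 k ↔ ∀ y, ⁅x, y⁆ ∈ Z1 k := by
  refine ⟨fun h y => by simp [h.1, h.2.1, h.2.2.1, h.2.2.2], fun h => ?_⟩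
  obtain ⟨h1, h2⟩ := (Z3_iff H).2 fun y => ⟨(h y).1, (h y).2.1, (h y).2.2.1, (h y).2.2.2.1⟩
  obtain ⟨a, a1, a2, -⟩ := exists_el H 1 0 0 0
  obtain ⟨b, b1, b2, -⟩ := exists_el H 0 1 0 0
  exact ⟨h1, h2, by simpa [b1, b2, h1, h2] using (h b).2.2.2.2,
    by simpa [a1, a2, h1, h2] using (h a).2.2.2.2⟩

theorem Z1_iff {x : U5 k} : x ∈ Z1 k ↔ ∀ y : U5 k, ⁅x, y⁆ = 1 := by
  refine ⟨fun h y => by ext <;> simp [h.1, h.2.1, h.2.2.1, h.2.2.2.1, h.2.2.2.2], fun h => ?_⟩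
  obtain ⟨h1, h2, h3, h4⟩ := (Z2_iff H).2 fun y => h y ▸ one_mem _
  refine ⟨h1, h2, h3, h4, eq_zero_of_im H fun s => ?_⟩
  obtain ⟨a, rfl, -⟩ := exists_el H s 0 0 0
  have := congrArg U5.z (h a)
  simp [h1, h2, h3, h4] at this
  linear_combination this

theorem Q2_iff {x : U5 k} : x ∈ Q2 k ↔ ∀ y ∈ Z2 k, ⁅x, y⁆ = 1 := by
  refine ⟨fun h y hy => by ext <;> simp [mem_Q2.1 h, hy.1, hy.2.1, hy.2.2.1, hy.2.2.2],
    fun h => eq_zero_of_im H fun t => ?_⟩
  obtain ⟨a, a1, a2, a3, rfl, a5, -⟩ := exists_el H 0 0 0 t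
  have := congrArg U5.z (h a ⟨a1, a2, a3, a5 rfl⟩)
  simp [a1, a2, a3, a5 rfl] at this
  linear_combination this

theorem R8_iff {x : U5 k} (hx : x ∉ Q2 k) : x ∈ R8 k ↔
    ∃ d ∈ Z3 k, ∃ d' ∈ Z3 k, ⁅x, d⁆ ∈ Z1 k ∧ ⁅x, d'⁆ ∈ Z1 k ∧ ⁅d, d'⁆ ≠ 1 := by
  constructor
  · intro h
    rw [mem_R8] at h
    obtain ⟨θ, hθ⟩ := exists_star_ne H
    obtain ⟨a, a1, a2, a3, -, a5, -⟩ := exists_el H 0 0 1 0
    obtain ⟨b, b1, b2, b3, -, b5, -⟩ := exists_el H 0 0 θ 0
    refine ⟨a, ⟨a1, a2⟩, b, ⟨b1, b2⟩, by simp [h, a1, a2, a5 rfl], by simp [h, b1, b2, b5 rfl],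
      fun e => hθ ?_⟩
    have := congrArg U5.z e
    simp [a1, a2, a3, b1, b2, b3] at this
    linear_combination -this
  · rintro ⟨d, ⟨d1, d2⟩, d', ⟨d1', d2'⟩, h1, h2, h3⟩
    by_contra hu
    rw [mem_R8] at hu
    have e1 : star x.u * d.w + d.c * x.s = 0 := by simpa [d1, d2] using h1.2.2.2.2
    have e2 : star x.u * d'.w + d'.c * x.s = 0 := by simpa [d1', d2'] using h2.2.2.2.2
    have e3 := congrArg star e1
    have e4 := congrArg star e2
    simp [d2, d2'] at e3 e4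
    refine h3 ?_
    ext <;> simp [d1, d2, d1', d2']
    refine mul_left_cancel₀ (mul_ne_zero hu (star_ne_zero.2 hu)) ?_
    linear_combination (star x.u * d'.w) * e3 - (star x.u * d.w) * e4 + (d.c * star x.s) * e2 -
      (d'.c * star x.s) * e1

variable (α : U5 k ≃* U5 k) {x : U5 k}

theorem map_Z1 (h : x ∈ Z1 k) : α x ∈ Z1 k := (Z1_iff H).2 fun y => by
  rw [← α.apply_symm_apply y, ← map_commutatorElement, (Z1_iff H).1 h, map_one]

theorem map_Z2 (h : x ∈ Z2 k) : α x ∈ Z2 k := (Z2_iff H).2 fun y => by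
  rw [← α.apply_symm_apply y, ← map_commutatorElement]; exact map_Z1 H α ((Z2_iff H).1 h _)

theorem map_Z3 (h : x ∈ Z3 k) : α x ∈ Z3 k := (Z3_iff H).2 fun y => by
  rw [← α.apply_symm_apply y, ← map_commutatorElement]; exact map_Z2 H α ((Z3_iff H).1 h _)

theorem map_Q2 (h : x ∈ Q2 k) : α x ∈ Q2 k := (Q2_iff H).2 fun y hy => by
  rw [← α.apply_symm_apply y, ← map_commutatorElement, (Q2_iff H).1 h _ (map_Z2 H α.symm hy), map_one]

theorem map_Q2_iff : α x ∈ Q2 k ↔ x ∈ Q2 k :=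
  ⟨fun h => α.symm_apply_apply x ▸ map_Q2 H α.symm h, map_Q2 H α⟩

theorem map_R8 (h : x ∈ R8 k) : α x ∈ R8 k := by
  by_cases hx : x ∈ Q2 k
  · exact (map_Z3 H α ⟨hx, h⟩).2
  obtain ⟨d, hd, d', hd', h1, h2, h3⟩ := (R8_iff H hx).1 h
  refine (R8_iff H (mt (map_Q2_iff H α).1 hx)).2 ⟨α d, map_Z3 H α hd, α d', map_Z3 H α hd', ?_, ?_, ?_⟩
  · rw [← map_commutatorElement]; exact map_Z1 H α h1
  · rw [← map_commutatorElement]; exact map_Z1 H α h2
  · rwa [← map_commutatorElement, Ne, map_eq_one_iff _ α.injective]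

theorem s_congr {x y : U5 k} (h : x.s = y.s) : (α x).s = (α y).s := by
  have := map_Q2 H α (x := x⁻¹ * y) (by simp [h])
  rw [map_mul, map_inv, mem_Q2, U5.mul_s, U5.inv_s] at this
  linear_combination -this

theorem u_congr {x y : U5 k} (h : x.u = y.u) : (α x).u = (α y).u := by
  have := map_R8 H α (x := x⁻¹ * y) (by simp [h])
  rw [map_mul, map_inv, mem_R8, U5.mul_u, U5.inv_u] at this
  linear_combination -this

theorem eq_of_su {γ δ : Sd k} (h : ∀ x, (γ.ap x).s = (δ.ap x).s ∧ (γ.ap x).u = (δ.ap x).u) :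
    γ = δ := by
  have hs' : ∀ a, γ.a * γ.τ a = δ.a * δ.τ a := fun a => by
    simpa using (h ⟨a, 0, 0, 0, 0, 0, by simp, by simp⟩).1
  have ha : γ.a = δ.a := by simpa using hs' 1
  have hτ : γ.τ = δ.τ := RingEquiv.ext fun a => mul_left_cancel₀ γ.ha (ha ▸ hs' a)
  obtain ⟨x, -, hx, -⟩ := exists_el H 0 1 0 0
  exact Sd.ext ha (by simpa [hx] using (h x).2) hτ

theorem Z3_le_Fr : Z3 k ≤ Fr p (⊤ : Subgroup (U5 k)) := fun x hx => by
  obtain ⟨a, a1, a2, -⟩ := exists_el H x.w 0 0 0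
  obtain ⟨b, b1, b2, -⟩ := exists_el H 0 1 0 0
  have h : ⁅a, b⁆⁻¹ * x ∈ Fr p (Q2 k) := Br2.V4_le_Fr H (by simp [hx.1, hx.2, a1, a2, b1, b2])
  rw [← mul_inv_cancel_left ⁅a, b⁆ x]
  exact mul_mem (cm_Fr (mem_top a) (mem_top b)) (Fr_le_of (fun _ _ _ _ => cm_Fr (mem_top _) (mem_top _))
    (fun _ _ => pow_Fr (mem_top _)) h)

end AutU

open AutU

/-- Every automorphism acts on the Frattini quotient like a standard automorphism. -/
theorem aut_frattini (α : U5 k ≃* U5 k) :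
    ∃ γ : Sd k, ∀ x, (α x).s = (γ.ap x).s ∧ (α x).u = (γ.ap x).u := by
  choose σ h1 h2 _ using fun s u => exists_el H s u 0 0
  let A : k → k := fun s => (α (σ s 0)).s
  let B : k → k := fun u => (α (σ 0 u)).u
  have hA : ∀ x, (α x).s = A x.s := fun x => s_congr H α (h1 _ _).symm
  have hB : ∀ x, (α x).u = B x.u := fun x => u_congr H α (h2 _ _).symm
  have A0 : ∀ s, A s = 0 → s = 0 := fun s h => (h1 s 0).symm.trans ((map_Q2_iff H α).1 h)
  have B1 : B 1 ≠ 0 := fun h => one_ne_zero ((h2 0 1).symm.trans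
    (α.symm_apply_apply (σ 0 1) ▸ map_R8 H α.symm h :))
  have A1 : A 1 ≠ 0 := fun h => one_ne_zero (A0 1 h)
  have Aa : ∀ s s', A (s + s') = A s + A s' := fun s s' => by
    have := hA (σ s 0 * σ s' 0)
    rwa [map_mul, U5.mul_s, U5.mul_s, h1, h1, eq_comm] at this
  obtain ⟨φ, hφ⟩ := Br2.exists_factor H (E := fun x => (α x).w) fun x hx y hy => by
    simp [mem_Q2.1 (map_Q2 H α hx)]
  have hc : ∀ s u, A s * B u = φ (s * u, 0) := fun s u => by
    have := hφ ⁅σ s 0, σ 0 u⁆ (U5.cm_s _ _)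
    rw [map_commutatorElement, U5.cm_w, U5.cm_w, U5.cm_u, mem_Q2.1 (map_Q2 H α (h1 0 u))] at this
    simpa [h1, h2] using this
  have hm : ∀ s u, A s * B u = A (s * u) * B 1 := fun s u => by rw [hc, hc, mul_one]
  have hAB : ∀ u, B u = B 1 * (A u / A 1) := fun u => by
    have := hm 1 u
    rw [one_mul] at this
    field_simp
    linear_combination this
  let τ : k →+* k :=
    { toFun := fun s => A s / A 1
      map_one' := div_self A1
      map_mul' := fun s u => by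
        have := hm s u
        rw [hAB u] at this
        field_simp at this ⊢
        linear_combination -this
      map_zero' := by
        have := Aa 0 0
        rw [add_zero, left_eq_add] at this
        rw [this, zero_div]
      map_add' := fun s s' => by rw [Aa, add_div] }
  let τ' := RingEquiv.ofBijective τ τ.injective.bijective_of_finite
  refine ⟨⟨A 1, B 1, τ', A1, B1, star_comm H τ'⟩, fun x => ⟨?_, (hB x).trans (hAB _)⟩⟩
  exact (hA x).trans (mul_div_cancel₀ _ A1).symm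

variable {F : FusionSystem (⊤ : Subgroup (U5 k))}

namespace AutU

/-- Transport of automorphisms to the top subgroup. -/
abbrev ι : MulAut (U5 k) ≃* MulAut (⊤ : Subgroup (U5 k)) := MulAut.congr topEquiv.symm

omit H in
theorem totA_ι (α : MulAut (U5 k)) (x : U5 k) : totA (ι α) x = α x := totA_apply _ (mem_top x)

/-- The automorphisms of the whole group lying in `F`. -/
def XF (F : FusionSystem (⊤ : Subgroup (U5 k))) : Subgroup (MulAut (U5 k)) :=
  (F.autGroup ⊤).comap ι.toMonoidHom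

omit H in
theorem mem_XF {α : MulAut (U5 k)} : α ∈ XF F ↔ F.Mor ⊤ α :=
  (mem_autGroup_iff le_rfl).trans (mor_congr fun x _ => totA_ι α x)

omit H in
theorem inn_eq : (Inn (⊤ : Subgroup (U5 k))).comap ι.toMonoidHom = (MulAut.conj (G := U5 k)).range := by
  ext α
  rw [mem_comap, mem_inn_iff]
  exact ⟨fun ⟨g, _, h⟩ => ⟨g, MulEquiv.ext fun x => (h ⟨x, mem_top x⟩).symm⟩,
    fun ⟨g, h⟩ => ⟨g, mem_top g, fun x => h ▸ rfl⟩⟩

theorem not_dvd_idx (hF : F.IsSaturated p) :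
    ¬ p ∣ (MulAut.conj (G := U5 k)).range.relIndex (XF F) := by
  rw [← inn_eq, XF, relIndex_comap, map_comap_eq_self_of_surjective ι.surjective]
  exact hF.not_dvd_relIndex_inn ((isPGroup_U5 H).to_subgroup ⊤)

omit H in
theorem normal_inn : (MulAut.conj (G := U5 k)).range.Normal :=
  ⟨by rintro _ ⟨g, rfl⟩ α; exact ⟨α g, MulEquiv.ext fun x => by simp⟩⟩

theorem isPGroup_inn' : IsPGroup p (MulAut.conj (G := U5 k)).range :=
  (isPGroup_U5 H).of_surjective _ (MulAut.conj (G := U5 k)).rangeRestrict_surjective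

/-- The action on the Frattini quotient. -/
theorem exists_proj : ∃ π : MulAut (U5 k) →* Sd k, (∀ γ, π (Sd.act γ) = γ) ∧ IsPGroup p π.ker ∧
    (MulAut.conj (G := U5 k)).range ≤ π.ker := by
  choose π hπ using aut_frattini H
  have h1 : ∀ α γ, (∀ x, (α x).s = (γ.ap x).s ∧ (α x).u = (γ.ap x).u) → π α = γ := fun α γ h =>
    eq_of_su H fun x => ⟨(hπ α x).1.symm.trans (h x).1, (hπ α x).2.symm.trans (h x).2⟩
  refine ⟨MonoidHom.mk' π fun α β => h1 _ _ fun x => ?_, fun γ => h1 _ _ fun x => ⟨rfl, rfl⟩, ?_, ?_⟩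
  · rw [MulAut.mul_apply, Sd.mul_ap, (hπ α _).1, (hπ α _).2]
    simp [(hπ β x).1, (hπ β x).2]
  · refine ((isPGroup_chainStab ((isPGroup_U5 H).to_subgroup ⊤)
      (C := fun i => if i = 0 then ⊤ else Z3 k) (n := 1) rfl (Z3_le_Fr H)).comap_of_injective
        ι.toMonoidHom ι.injective).to_le fun α hα => ?_
    refine mem_chainStab_of le_rfl (fun i hi => by interval_cases i; exact le_top) fun i hi x _ => ?_
    interval_cases i
    have := hπ α x
    rw [show π α = 1 from hα, Sd.one_ap] at this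
    show x⁻¹ * totA (ι α) x ∈ Z3 k
    simp [-MulAut.congr_apply, totA_ι, this]
  · rintro _ ⟨g, rfl⟩
    exact h1 _ _ fun x => by simp [Sd.one_ap]

end AutU

theorem not_dvd_card_KF (hF : F.IsSaturated p) : ¬ p ∣ Nat.card (KF F) := by
  obtain ⟨π, h1, -, h2⟩ := exists_proj (p := p) H
  have hd : (KF F).map Sd.act ⊓ (MulAut.conj (G := U5 k)).range = ⊥ := by
    rw [eq_bot_iff]
    rintro _ ⟨⟨γ, -, rfl⟩, h⟩
    rw [mem_bot, ← h1 γ, show π (Sd.act γ) = 1 from h2 h, map_one]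
  have hi : Function.Injective (Sd.act (k := k)) := fun γ δ h => by rw [← h1 γ, h, h1]
  have := normal_inn (k := k)
  intro hp
  refine not_dvd_idx H hF (hp.trans ?_)
  rw [← card_map_of_injective hi, ← relIndex_bot_left, ← hd, inf_relIndex_left, ← relIndex_sup_left]
  refine Dvd.intro _ (relIndex_mul_relIndex _ _ _ le_sup_left (sup_le ?_ ?_))
  · rintro _ ⟨g, rfl⟩; exact mem_XF.2 (F.mor_conj le_rfl (mem_top g))
  · rintro _ ⟨γ, hγ, rfl⟩; exact mem_XF.2 hγ

theorem eq_one_of_mem_KF (hF : F.IsSaturated p) {γ : Sd k} (hγ : γ ∈ KF F) {j : ℕ}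
    (h : γ ^ p ^ j = 1) : γ = 1 := by
  obtain ⟨i, -, hi⟩ := (Nat.dvd_prime_pow Fact.out).1 (orderOf_dvd_of_pow_eq_one h)
  rcases i with _ | i
  · exact orderOf_eq_one_iff.1 (by rw [hi, pow_zero])
  · exact absurd ((hi ▸ dvd_pow_self p i.succ_ne_zero).trans ((KF F).orderOf_dvd_natCard hγ))
      (not_dvd_card_KF H hF)

theorem exists_std (hF : F.IsSaturated p) : ∃ (e : U5 k ≃* U5 k)
    (F' : FusionSystem (⊤ : Subgroup (U5 k))), F.IsIsoVia F' e e.symm ∧ Std F' := by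
  obtain ⟨π, h1, hp, h2⟩ := exists_proj (p := p) H
  have := normal_inn (k := k)
  have cop : ∀ {P : Subgroup (MulAut (U5 k))} {m : ℕ}, IsPGroup p P → ¬ p ∣ m →
      (Nat.card P).Coprime m := fun hP hm => by
    obtain ⟨n, hn⟩ := hP.exists_card_eq
    exact hn ▸ ((Nat.Prime.coprime_iff_not_dvd Fact.out).2 hm).pow_left n
  obtain ⟨K, hK, hs, -, hc⟩ := GT.exists_complement_of_coprime_relIndex
    (N := (MulAut.conj (G := U5 k)).range) (L := XF F)
    (by rintro _ ⟨g, rfl⟩; exact mem_XF.2 (F.mor_conj le_rfl (mem_top g)))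
    (by rw [normalizer_eq_top]; exact le_top) (cop (isPGroup_inn' H) (not_dvd_idx H hF))
  have hK' : ¬ p ∣ Nat.card K := hc ▸ not_dvd_idx H hF
  have hk : ∀ α, α * (Sd.act (π α))⁻¹ ∈ π.ker := fun α => by
    rw [MonoidHom.mem_ker, map_mul, map_inv, h1, mul_inv_cancel]
  obtain ⟨e, -, he⟩ := GT.conj_of_coprime_sup_eq_of_normal π.ker K (K.map (Sd.act.comp π))
    (cop hp hK') (cop hp fun h => hK' (h.trans (card_map_dvd _ _)))
    (le_antisymm (sup_le le_sup_left fun α hα => by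
      rw [← inv_mul_cancel_right α (Sd.act (π α))]
      exact mul_mem (mem_sup_left (hk α)) (mem_sup_right ⟨α, hα, rfl⟩))
      (sup_le le_sup_left (by
        rintro _ ⟨α, hα, rfl⟩
        have := mul_mem (inv_mem (mem_sup_left (T := K) (hk α))) (mem_sup_right hα)
        simpa using this)))
    (Or.inl (by have := hp.isNilpotent; infer_instance))
  obtain ⟨F', hi⟩ := F.exists_isIsoVia (θ := e) (η := e.symm) (S' := ⊤) (fun _ _ _ _ => map_mul e _ _)
    (le_antisymm le_top fun x _ => e.apply_symm_apply x ▸ mem_img_of_mem (mem_top _))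
    fun x _ => e.symm_apply_apply x
  refine ⟨e, F', hi, fun f hf => ?_⟩
  have h3 := hi.pull hf
  rw [hi.symm.img_top] at h3
  obtain ⟨α, hα, eα⟩ := h3.iso_top.exists_aut
  have h4 : ι.symm α ∈ XF F := show ι (ι.symm α) ∈ _ from (ι.apply_symm_apply α).symm ▸ hα
  rw [← hs, ← SetLike.mem_coe, normal_mul] at h4
  obtain ⟨_, ⟨g, rfl⟩, κ, hκ, e4⟩ := h4
  obtain ⟨β, -, e5⟩ : e * κ * e⁻¹ ∈ K.map (Sd.act.comp π) := he ▸ smul_mem_pointwise_smul κ _ K hκ
  have e6 : ∀ x, (π β).ap x = e (κ (e.symm x)) := fun x => DFunLike.congr_fun e5 x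
  refine ⟨e g, π β, ?_, fun x => ?_⟩
  · have := hi.push (mem_XF.1 (hK hκ))
    rw [hi.img_top] at this
    exact this.congr fun x _ => (e6 x).symm
  · have := eα (e.symm x) (mem_top _)
    rw [← ι.apply_symm_apply α, totA_ι, ← e4, e.apply_symm_apply, eq_comm, e.symm_apply_eq] at this
    rw [this, e6]
    simp

end Cfsg.Agent.UF
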