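import Mathlib
import Cfsg.Agent.UF.Card

/-! The conjugates of the line `(*, 0, 0)` in `k³`. -/

set_option autoImplicit false
set_option linter.unusedSectionVars false
set_option linter.unusedVariables false

namespace Cfsg.Agent.UF

open Subgroup Cfsg.FusionSystem Cfsg.Agent.Fus Cfsg.Agent.Cl Cfsg.Agent.Oc
open scoped commutatorElement

universe u

variable {k : Type u} [Field k] [StarRing k] [Finite k] {p q : ℕ} [Fact p.Prime] [CharP k p]

/-- The hypotheses on the group induced on `Q1 / Z1`. -/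
structure WH (p : ℕ) (X : Subgroup (AA (k × k × k))) (K : Subgroup (Sd k)) : Prop where
  hU : ∀ a c, c + star c + a * star a = 0 → uW a c ∈ X
  hB : ∀ g ∈ X, ∀ v v' w w', hB v v' = hB w w' → hB (g v) (g v') = hB (g w) (g w')
  hK : ∀ γ ∈ K, dW γ ∈ X
  hN : ∀ g ∈ X, (∀ t, (g (t, 0, 0)).2 = 0) →
    ∃ a c, c + star c + a * star a = 0 ∧ ∃ γ ∈ K, g = uW a c * dW γ
  hp : ∀ γ ∈ K, ∀ j : ℕ, γ ^ p ^ j = 1 → γ = 1

/-- `g` maps the line `(*, 0, 0)` onto the graph `(γ s + ε s̄, β s̄, s)`. -/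
def Gr (g : AA (k × k × k)) (β γ ε : k) : Prop :=
  ∀ v, (∃ t, g (t, 0, 0) = v) ↔ ∃ s, v = (γ * s + ε * star s, β * star s, s)

namespace LW

theorem ap_mul (g g' : AA (k × k × k)) (v : k × k × k) : (g * g') v = g (g' v) := rfl

theorem ap_inv (g : AA (k × k × k)) (v : k × k × k) : g (g⁻¹ v) = v := g.apply_symm_apply v

theorem inv_ap (g : AA (k × k × k)) (v : k × k × k) : g⁻¹ (g v) = v := g.symm_apply_apply v

theorem uW_mul (a c a' c' : k) : uW a c * uW a' c' = uW (a + a') (c + c' - star a * a') := by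
  refine LinearEquiv.ext fun v => ?_
  rw [ap_mul]
  ext <;> simp <;> ring

theorem uW_zero : uW (0 : k) 0 = 1 := LinearEquiv.ext fun v => by ext <;> simp

theorem uW_inv (a c : k) : (uW a c)⁻¹ = uW (-a) (-c - star a * a) := by
  rw [inv_eq_iff_mul_eq_one, uW_mul, ← uW_zero]
  congr 1 <;> ring

theorem uW_pow (a c : k) (n : ℕ) : ∃ c', uW a c ^ n = uW (n * a) c' := by
  induction n with
  | zero => exact ⟨0, by simp [uW_zero]⟩
  | succ n ih =>
    obtain ⟨c', e⟩ := ih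
    exact ⟨_, by rw [pow_succ, e, uW_mul, Nat.cast_succ, add_mul, one_mul]⟩

theorem uW_pow0 (c : k) (n : ℕ) : uW 0 c ^ n = uW 0 (n * c) := by
  induction n with
  | zero => simp [uW_zero]
  | succ n ih =>
    rw [pow_succ, ih, uW_mul]
    congr 1 <;> simp
    ring

theorem uW_pp (p : ℕ) [CharP k p] (a c : k) : uW a c ^ p ^ 2 = 1 := by
  obtain ⟨c', e⟩ := uW_pow a c p
  rw [sq, pow_mul, e, CharP.cast_eq_zero, zero_mul, uW_pow0, CharP.cast_eq_zero, zero_mul, uW_zero]

theorem dW_uW (γ : Sd k) (a c : k) :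
    dW γ * uW a c = uW (γ.b * γ.τ a) (γ.b * star γ.b * γ.τ c) * dW γ := by
  refine LinearEquiv.ext fun v => ?_
  rw [ap_mul, ap_mul]
  ext <;> simp <;> ring

theorem pow_form (a c : k) (γ : Sd k) (n : ℕ) :
    ∃ a' c', (uW a c * dW γ) ^ n = uW a' c' * dW (γ ^ n) := by
  induction n with
  | zero => exact ⟨0, 0, by simp [uW_zero]⟩
  | succ n ih =>
    obtain ⟨a', c', e⟩ := ih
    exact ⟨_, _, by
      rw [pow_succ, e, mul_assoc, ← mul_assoc (dW _), dW_uW, mul_assoc, ← mul_assoc, uW_mul,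
        ← map_mul, ← pow_succ]⟩

theorem uW_fix (c : k) {v : k × k × k} (h : v.2.2 = 0) : uW 0 c v = v := by
  ext <;> simp [h]

theorem hB_uW {a c : k} (hc : c + star c + a * star a = 0) (v v' : k × k × k) :
    hB (uW a c v) (uW a c v') = hB v v' := by
  simp only [hB, hH, uW_apply, star_add, star_sub, star_mul', star_star]
  linear_combination (v.2.2 * star v'.2.2 - star v.2.2 * v'.2.2) * hc

theorem hB_sub (v w v' : k × k × k) : hB (v - w) v' = hB v v' - hB w v' := by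
  simp [hB, hH]; ring

theorem hB_smul {l : k} (hl : star l = l) (v v' : k × k × k) : hB (l • v) v' = l * hB v v' := by
  simp [hB, hH, hl]; ring

theorem hB_zero : hB (0 : k × k × k) 0 = 0 := by simp [hB, hH]

theorem hB_line (t t' : k) : hB (t, 0, 0) (t', 0, 0) = 0 := by simp [hB, hH]

/-- The stabiliser of the line is closed under inverses. -/
theorem fx_inv {g : AA (k × k × k)} (e : ∀ t, (g (t, 0, 0)).2 = 0) (t : k) :
    (g⁻¹ (t, 0, 0)).2 = 0 := by
  have hi : Function.Injective fun t : k => (g (t, 0, 0)).1 := fun x y hxy => by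
    have : g (x, 0, 0) = g (y, 0, 0) := Prod.ext hxy ((e x).trans (e y).symm)
    exact congrArg Prod.fst (g.injective this)
  obtain ⟨x, hx⟩ := Finite.injective_iff_surjective.1 hi t
  have : ((t, 0, 0) : k × k × k) = g (x, 0, 0) := Prod.ext hx.symm (e x).symm
  rw [this, inv_ap]
  rfl

variable (H : UField (starRingEnd k) q)
include H

theorem s_eq_zero {v : k × k × k} (h : ∀ t, hB v (t, 0, 0) = 0) : v.2.2 = 0 :=
  eq_zero_of_im H fun y => by
    have := h y
    simp [hB, hH] at this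
    linear_combination -this

theorem hB_nondeg {v : k × k × k} (h : ∀ v', hB v v' = 0) : v = 0 := by
  refine Prod.ext (eq_zero_of_im H fun y => ?_) (Prod.ext (eq_zero_of_im H fun y => ?_)
    (s_eq_zero H fun t => h _))
  · have := h (0, 0, y)
    simp [hB, hH] at this
    linear_combination -this
  · have := h (0, y, 0)
    simp [hB, hH] at this
    linear_combination -this

theorem iso_smul {x : AA (k × k × k)} (hx : ∀ v v', hB (x v) (x v') = hB v v') {l : k}
    (hl : star l = l) (v : k × k × k) : x (l • v) = l • x v := by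
  rw [← sub_eq_zero]
  refine hB_nondeg H fun v' => ?_
  obtain ⟨w, rfl⟩ := x.surjective v'
  rw [hB_sub, hx, hB_smul hl, hB_smul hl, hx, sub_self]

end LW

open LW

variable (H : UField (starRingEnd k) q) {X : Subgroup (AA (k × k × k))} {K : Subgroup (Sd k)}
  (h : WH p X K)
include H h

/-- A `p`-element fixing the line is unipotent. -/
theorem WH.isU {g : AA (k × k × k)} (hg : g ∈ X) (e : ∀ t, (g (t, 0, 0)).2 = 0) {j : ℕ}
    (hj : g ^ p ^ j = 1) : ∃ a c, c + star c + a * star a = 0 ∧ g = uW a c := by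
  obtain ⟨a, c, hc, γ, hγ, rfl⟩ := h.hN g hg e
  obtain ⟨a', c', e'⟩ := pow_form a c γ (p ^ j)
  rw [hj] at e'
  have h1 : ∀ s, (γ ^ p ^ j).a * (γ ^ p ^ j).τ s = s := fun s => by
    have := congrArg (fun x : AA (k × k × k) => (x (0, 0, s)).2.2) e'
    simpa [ap_mul, -map_pow] using this.symm
  have ha : (γ ^ p ^ j).a = 1 := by simpa using h1 1
  have hb : (γ ^ p ^ j).b = 1 := by
    have := congrArg (fun x : AA (k × k × k) => (x (0, 1, 0)).2.1) e'
    simpa [ap_mul, ha, -map_pow] using this.symm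
  have : γ = 1 := h.hp γ hγ j (Sd.ext ha hb (RingEquiv.ext fun s => by simpa [ha] using h1 s))
  exact ⟨a, c, hc, by rw [this, map_one, mul_one]⟩

/-- Lemma T. -/
theorem WH.fix_of_conj {g : AA (k × k × k)} (hg : g ∈ X) {a c a' c' : k}
    (hc : c + star c + a * star a = 0) (hc' : c' + star c' + a' * star a' = 0) (h1 : uW a c ≠ 1)
    (e : g * uW a c * g⁻¹ = uW a' c') : ∀ t, (g (t, 0, 0)).2 = 0 := by
  intro t
  have e' : ∀ v, uW a' c' (g v) = g (uW a c v) := fun v => by rw [← e, ap_mul, ap_mul, inv_ap]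
  obtain ⟨v, hv⟩ : ∃ v, ((t, 0, 0) : k × k × k) = uW a c v - v := by
    by_cases ha : a = 0
    · have hc0 : c ≠ 0 := fun h0 => h1 (by rw [ha, h0, uW_zero])
      exact ⟨(0, 0, t / c), by ext <;> simp [ha]; field_simp⟩
    · have : star a ≠ 0 := star_ne_zero.2 ha
      exact ⟨(0, -t / star a, 0), by ext <;> simp; field_simp⟩
  have h2 : g (t, 0, 0) = uW a' c' (g v) - g v := by rw [hv, map_sub, e']
  have h3 : uW a' c' (g (t, 0, 0)) = g (t, 0, 0) := by rw [e']; simp
  have h4 : (g (t, 0, 0)).2.2 = 0 := by rw [h2]; simp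
  have h5 : (g (t, 0, 0)).2.1 = a' * (g v).2.2 := by rw [h2]; simp
  have h6 := congrArg Prod.fst h3
  simp only [uW_apply, h4, h5] at h6
  refine Prod.ext ?_ h4
  rw [h5]
  by_cases ha : a' = 0
  · simp [ha]
  · exact mul_left_cancel₀ (star_ne_zero.2 ha) (by
      change star a' * (a' * (g v).2.2) = star a' * 0
      linear_combination -h6)

/-- Lemma N: a nontrivial unipotent element fixes only one conjugate of the line. -/
theorem WH.fix_of_stab {g : AA (k × k × k)} (hg : g ∈ X) {a c : k}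
    (hc : c + star c + a * star a = 0) (h1 : uW a c ≠ 1)
    (e : ∀ t, ((g⁻¹ * uW a c * g) (t, 0, 0)).2 = 0) : ∀ t, (g (t, 0, 0)).2 = 0 := by
  obtain ⟨a', c', hc', e'⟩ := h.isU H (X.mul_mem (X.mul_mem (X.inv_mem hg) (h.hU a c hc)) hg) e
    (j := 2) (by rw [← inv_inv g, inv_inv g⁻¹, conj_pow, uW_pp]; simp)
  refine h.fix_of_conj H hg hc' hc (fun h0 => h1 ?_) (by rw [← e']; group)
  rw [h0] at e'
  calc uW a c = g * (g⁻¹ * uW a c * g) * g⁻¹ := by group
    _ = 1 := by rw [e']; group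

/-- Conjugates of the unipotent elements are isometries, hence linear over the fixed field. -/
theorem WH.smul_mem {g : AA (k × k × k)} (hg : g ∈ X) (t l : k) (hl : star l = l) :
    ∃ t', g (t', 0, 0) = l • g (t, 0, 0) := by
  obtain ⟨c, hc⟩ := exists_tr H (a := (-1 : k)) (by simp)
  have hc' : c + star c + 1 * star (1 : k) = 0 := by simp [hc]
  have hx : ∀ v v', UF.hB ((g * uW 1 c * g⁻¹) v) ((g * uW 1 c * g⁻¹) v') = UF.hB v v' := fun v v' => by
    rw [ap_mul, ap_mul, ap_mul, ap_mul, h.hB g hg _ _ _ _ (hB_uW hc' _ _), ap_inv, ap_inv]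
  have h1 := iso_smul H hx hl (g (t, 0, 0))
  rw [ap_mul, ap_mul, ap_mul, ap_mul, inv_ap] at h1
  set v := g⁻¹ (l • g (t, 0, 0)) with hv
  have h2 : uW 1 c v = v := g.injective (by rw [h1, hv, ap_inv]; simp)
  have h3 := congrArg (fun x => x.2.1) h2
  have h4 := congrArg (fun x => x.1) h2
  simp at h3
  simp [h3] at h4
  refine ⟨v.1, ?_⟩
  have : ((v.1, 0, 0) : k × k × k) = v := Prod.ext rfl (Prod.ext h4.symm h3.symm)
  rw [this, hv, ap_inv]

theorem WH.perp {g : AA (k × k × k)} (hg : g ∈ X) {v v' : k × k × k} (e : UF.hB v v' = 0) :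
    UF.hB (g v) (g v') = 0 := by
  rw [h.hB g hg v v' 0 0 (e.trans hB_zero.symm), map_zero, hB_zero]

/-- Lemma P. -/
theorem WH.fix_of_perp {g : AA (k × k × k)} (hg : g ∈ X)
    (e : ∀ t t', UF.hB (t', 0, 0) (g (t, 0, 0)) = 0) : ∀ t, (g (t, 0, 0)).2 = 0 := by
  obtain ⟨δ, hδ, hδ'⟩ := exists_tr_zero H
  have h1 : ∀ t, (g⁻¹ (t, 0, 0)).2 = 0 := by
    refine h.fix_of_stab H (X.inv_mem hg) (a := 0) (c := δ) (by simp [hδ']) (fun h0 => hδ ?_)
      fun t' => ?_
    · simpa using congrArg (fun x : AA (k × k × k) => (x (0, 0, 1)).1) h0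
    · have h2 : (g⁻¹ (t', 0, 0)).2.2 = 0 := s_eq_zero H fun t => by
        have := h.perp H (X.inv_mem hg) (e t t')
        rwa [inv_ap] at this
      rw [ap_mul, ap_mul, uW_fix δ h2, inv_inv, ap_inv]
      rfl
  simpa using fx_inv h1

/-- A conjugate of the line perpendicular to a nontrivial unipotent image is the line. -/
theorem WH.fix_of_perp' {g : AA (k × k × k)} (hg : g ∈ X) {a c : k}
    (hc : c + star c + a * star a = 0) (h1 : uW a c ≠ 1)
    (e : ∀ t t', UF.hB (g (t', 0, 0)) (uW a c (g (t, 0, 0))) = 0) : ∀ t, (g (t, 0, 0)).2 = 0 := by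
  refine h.fix_of_stab H hg hc h1 (h.fix_of_perp H
    (X.mul_mem (X.mul_mem (X.inv_mem hg) (h.hU a c hc)) hg) fun t t' => ?_)
  have := h.perp H (X.inv_mem hg) (e t t')
  rwa [inv_ap] at this

theorem WH.span {g : AA (k × k × k)} (hg : g ∈ X) {t0 t1 : k} (h0 : t0 ≠ 0)
    (e0 : (g (t0, 0, 0)).2.2 = 0) (e1 : (g (t1, 0, 0)).2.2 ≠ 0) (t : k) :
    ∃ l l' : k, star l = l ∧ star l' = l' ∧ g (t, 0, 0) = l • g (t0, 0, 0) + l' • g (t1, 0, 0) := by
  have h1 : ∀ x : {l : k // star l = l} × {l : k // star l = l},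
      ∃ t', g (t', 0, 0) = x.1.1 • g (t0, 0, 0) + x.2.1 • g (t1, 0, 0) := fun x => by
    obtain ⟨a, ha⟩ := h.smul_mem H hg t0 _ x.1.2
    obtain ⟨b, hb⟩ := h.smul_mem H hg t1 _ x.2.2
    exact ⟨a + b, by rw [← ha, ← hb, ← map_add]; simp⟩
  choose f hf using h1
  have hne : g (t0, 0, 0) ≠ 0 := fun h' => h0 (congrArg Prod.fst (g.map_eq_zero_iff.1 h'))
  have hi : Function.Injective f := fun x y hxy => by
    have h2 := (hf x).symm.trans ((congrArg (fun t => g (t, 0, 0)) hxy).trans (hf y))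
    have h3 := congrArg (fun v => v.2.2) h2
    simp [e0, e1] at h3
    rw [h3, add_left_inj] at h2
    exact Prod.ext (Subtype.ext (smul_left_injective k hne h2)) (Subtype.ext h3)
  have hb := hi.bijective_of_nat_card_le (by rw [Nat.card_prod, card_fix H, card_k H, sq])
  obtain ⟨x, rfl⟩ := hb.2 t
  exact ⟨_, _, x.1.2, x.2.2, hf x⟩

theorem WH.exists_s {g : AA (k × k × k)} (hg : g ∈ X) (hne : ¬∀ t, (g (t, 0, 0)).2 = 0) :
    ∃ t, (g (t, 0, 0)).2.2 ≠ 0 := by
  by_contra h1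
  push Not at h1
  exact hne (h.fix_of_perp H hg fun t t' => by simp [UF.hB, hH, h1])

/-- Lemma I. -/
theorem WH.fix_of_meet (h2 : (2 : k) ≠ 0) {g : AA (k × k × k)} (hg : g ∈ X) {t0 : k}
    (h0 : t0 ≠ 0) (e0 : (g (t0, 0, 0)).2 = 0) : ∀ t, (g (t, 0, 0)).2 = 0 := by
  by_contra hne
  obtain ⟨t1, e1⟩ := h.exists_s H hg hne
  have hs := h.span H hg h0 (by rw [e0]; rfl) e1
  have hz := h.perp H hg (hB_line t0 t1)
  obtain ⟨x, hx⟩ : ∃ x, g (t0, 0, 0) = (x, 0, 0) := ⟨_, Prod.ext rfl e0⟩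
  obtain ⟨⟨y, w, s⟩, hy⟩ : ∃ v, g (t1, 0, 0) = v := ⟨_, rfl⟩
  rw [hx, hy] at hs hz
  rw [hy] at e1
  have e1' : star s ≠ 0 := star_ne_zero.2 e1
  obtain ⟨c, hc, hc2⟩ : ∃ c : k, c + star c + 1 * star (1 : k) = 0 ∧
      (c - star c) * (s * star s) = 2 * (w * star s - s * star w) := by
    refine ⟨-1 / 2 + (w * star s - s * star w) / (s * star s), ?_, ?_⟩
    · simp; field_simp; ring
    · simp; field_simp; ring
  refine hne (h.fix_of_perp' H hg hc (fun h1 => ?_) fun t t' => ?_)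
  · simpa using congrArg (fun x : AA (k × k × k) => (x (0, 0, 1)).2.1) h1
  · obtain ⟨l, l', hl, hl', e⟩ := hs t'
    obtain ⟨m, m', hm, hm', e'⟩ := hs t
    rw [e, e']
    simp [UF.hB, hH, hl, hl', hm, hm'] at hz ⊢
    linear_combination (l * m' - l' * m) * hz - l' * m' * hc2

/-- Lemma C: the other conjugates of the line are complements of its perp. -/
theorem WH.bij {g : AA (k × k × k)} (hg : g ∈ X) (hne : ∃ t, (g (t, 0, 0)).2 ≠ 0) :
    Function.Bijective fun t => (g (t, 0, 0)).2.2 := by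
  rw [← Finite.injective_iff_bijective]
  intro x y hxy
  by_contra h0
  rw [← sub_eq_zero] at h0
  have hne' : ¬∀ t, (g (t, 0, 0)).2 = 0 := by simpa using hne
  have e0 : (g (x - y, 0, 0)).2.2 = 0 := by
    have : ((x - y, 0, 0) : k × k × k) = (x, 0, 0) - (y, 0, 0) := by simp
    rw [this, map_sub]
    exact sub_eq_zero.2 hxy
  obtain ⟨δ, hδ, hδ'⟩ := exists_tr_zero H
  have hc : δ + star δ + 0 * star (0 : k) = 0 := by simp [hδ']
  have h1 : uW 0 δ ≠ 1 := fun h1 => hδ (by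
    simpa using congrArg (fun x : AA (k × k × k) => (x (0, 0, 1)).1) h1)
  by_cases h2 : (2 : k) = 0
  · obtain ⟨t1, e1⟩ := h.exists_s H hg hne'
    refine hne' (h.fix_of_perp' H hg hc h1 fun t t' => ?_)
    obtain ⟨l, l', hl, hl', e⟩ := h.span H hg h0 e0 e1 t'
    obtain ⟨m, m', hm, hm', e'⟩ := h.span H hg h0 e0 e1 t
    have hz := h.perp H hg (hB_line t' t)
    have a1 : (g (t', 0, 0)).2.2 = l' * (g (t1, 0, 0)).2.2 := by rw [e]; simp [e0]
    have a2 : (g (t, 0, 0)).2.2 = m' * (g (t1, 0, 0)).2.2 := by rw [e']; simp [e0]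
    simp [UF.hB, hH, a1, a2, hl', hm', hδ'] at hz ⊢
    linear_combination hz - δ * l' * m' * (g (t1, 0, 0)).2.2 * star (g (t1, 0, 0)).2.2 * h2
  · refine hne' (h.fix_of_stab H hg hc h1 (h.fix_of_meet H h2
      (X.mul_mem (X.mul_mem (X.inv_mem hg) (h.hU _ _ hc)) hg) h0 ?_))
    rw [ap_mul, ap_mul, uW_fix δ e0, inv_ap]
    rfl

end Cfsg.Agent.UF
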