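import Mathlib
import Cfsg.Agent.UF.LinWa

/-! One orbit of the unipotent group. -/

set_option autoImplicit false
set_option linter.unusedSectionVars false
set_option linter.unusedVariables false

namespace Cfsg.Agent.UF

open Subgroup Cfsg.FusionSystem Cfsg.Agent.Fus Cfsg.Agent.Cl Cfsg.Agent.Oc
open scoped commutatorElement

universe u

variable {k : Type u} [Field k] [StarRing k] [Finite k] {p q : ℕ} [Fact p.Prime] [CharP k p]

namespace LW

variable (H : UField (starRingEnd k) q)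
include H

/-- Maps linear over the fixed field. -/
theorem lin_form {f : k → k} (ha : ∀ x y, f (x + y) = f x + f y)
    (hl : ∀ l x, star l = l → f (l * x) = l * f x) : ∃ α β, ∀ s, f s = α * s + β * star s := by
  obtain ⟨θ, hθ⟩ := exists_star_ne H
  have h0 : star θ - θ ≠ 0 := sub_ne_zero.2 hθ
  have h0' : θ - star θ ≠ 0 := sub_ne_zero.2 hθ.symm
  refine ⟨f 1 - (f θ - θ * f 1) / (star θ - θ), (f θ - θ * f 1) / (star θ - θ), fun s => ?_⟩
  obtain ⟨m, hm, hm'⟩ : ∃ m : k, star m = m ∧ m * (star θ - θ) = star s - s :=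
    ⟨(star s - s) / (star θ - θ), by simp; field_simp; ring, by field_simp⟩
  have e : s = (s - m * θ) * 1 + m * θ := by ring
  have hs : star (s - m * θ) = s - m * θ := by simp [hm]; linear_combination -hm'
  conv_lhs => rw [e, ha, hl _ _ hs, hl _ _ hm]
  field_simp
  linear_combination (f θ - θ * f 1) * hm'

theorem exists_root {κ θ : k} (e : κ * star κ = θ * star θ) :
    ∃ s, s ≠ 0 ∧ κ * s + θ * star s = 0 := by
  by_cases h1 : κ = 0
  · have : θ = 0 := by
      rw [h1, zero_mul] at e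
      simpa using e.symm
    exact ⟨1, one_ne_zero, by simp [h1, this]⟩
  by_cases h2 : star κ - θ = 0
  · obtain ⟨δ, hδ, hδ'⟩ := exists_tr_zero H
    refine ⟨δ * star κ, mul_ne_zero hδ (star_ne_zero.2 h1), ?_⟩
    simp [hδ', ← sub_eq_zero.1 h2]
    ring
  · exact ⟨_, h2, by simp; linear_combination e⟩

omit H in
theorem Gr.ne {g : AA (k × k × k)} {β γ ε : k} (e : Gr g β γ ε) : ¬∀ t, (g (t, 0, 0)).2 = 0 := by
  intro h
  obtain ⟨t, ht⟩ := (e _).2 ⟨1, rfl⟩
  have := h t
  rw [ht] at this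
  simp at this

end LW

open LW

variable (H : UField (starRingEnd k) q) {X : Subgroup (AA (k × k × k))} {K : Subgroup (Sd k)}
  (h : WH p X K)
include H h

theorem WH.pre_form {g : AA (k × k × k)} (hg : g ∈ X) (hne : ∃ t, (g (t, 0, 0)).2 ≠ 0) :
    ∃ a c, c + star c + a * star a = 0 ∧ ∃ β γ ε : k, γ + star γ = β * star β ∧
      Gr (uW a c * g) β γ ε := by
  have hb := h.bij H hg hne
  choose f hf using hb.2
  have hadd : ∀ x y, g (f (x + y), 0, 0) = g (f x, 0, 0) + g (f y, 0, 0) := fun x y => by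
    have e : ((f x + f y, 0, 0) : k × k × k) = (f x, 0, 0) + (f y, 0, 0) := by simp
    have : f (x + y) = f x + f y := hb.1 (by
      dsimp only at hf ⊢
      rw [hf, e, map_add, Prod.snd_add, Prod.snd_add, hf, hf])
    rw [this, e, map_add]
  have hsm : ∀ l x, star l = l → g (f (l * x), 0, 0) = l • g (f x, 0, 0) := fun l x hl => by
    obtain ⟨t, ht⟩ := h.smul_mem H hg (f x) l hl
    have : f (l * x) = t := hb.1 (by
      dsimp only at hf ⊢
      rw [hf, ht, Prod.smul_snd, Prod.smul_snd, hf, smul_eq_mul])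
    rw [this, ht]
  obtain ⟨γ, ε, h1⟩ := lin_form H (f := fun s => (g (f s, 0, 0)).1) (fun x y => by simp [hadd])
    fun l x hl => by simp [hsm l x hl]
  obtain ⟨α, β, h2⟩ := lin_form H (f := fun s => (g (f s, 0, 0)).2.1) (fun x y => by simp [hadd])
    fun l x hl => by simp [hsm l x hl]
  have h3 : ∀ s, g (f s, 0, 0) = (γ * s + ε * star s, α * s + β * star s, s) := fun s =>
    Prod.ext (h1 s) (Prod.ext (h2 s) (hf s))
  obtain ⟨c, hc⟩ := exists_tr H (a := -(α * star α)) (by simp [mul_comm])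
  have hc' : c + star c + -α * star (-α) = 0 := by simp [hc]
  have h4 : ∀ s, (uW (-α) c * g) (f s, 0, 0) = ((γ + star α * α + c) * s +
      (ε + star α * β) * star s, β * star s, s) := fun s => by
    rw [ap_mul, h3]
    ext <;> simp <;> ring
  refine ⟨-α, c, hc', β, γ + star α * α + c, ε + star α * β, ?_, fun v => ⟨?_, ?_⟩⟩
  · obtain ⟨θ, hθ⟩ := exists_star_ne H
    have := h.perp H hg (hB_line (f 1) (f θ))
    rw [h3, h3] at this
    simp [UF.hB, hH] at this ⊢
    refine mul_left_cancel₀ (sub_ne_zero.2 hθ) ?_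
    linear_combination this + (star θ - θ) * hc
  · rintro ⟨t, rfl⟩
    refine ⟨(g (t, 0, 0)).2.2, ?_⟩
    rw [← h4, hb.1 (hf _)]
  · rintro ⟨s, rfl⟩
    exact ⟨_, h4 s⟩

/-- The pairing of two graphs. -/
theorem WH.pair {g g' : AA (k × k × k)} (hg : g ∈ X) (hg' : g' ∈ X) {β γ ε β' γ' ε' a c : k}
    (e : Gr g β γ ε) (e' : Gr g' β' γ' ε') (hc : c + star c + a * star a = 0) {κ θ : k}
    (hκ : κ = γ + star γ' + star c - star β * β') (hθ : θ = ε - ε' + star a * (β + β'))
    (hN : κ * star κ = θ * star θ) : ∀ t, ((g⁻¹ * uW a c * g') (t, 0, 0)).2 = 0 := by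
  obtain ⟨s, hs, hρ⟩ := exists_root H hN
  obtain ⟨t0, ht⟩ := (e _).2 ⟨s, rfl⟩
  have hx : (uW a c * g')⁻¹ * g ∈ X := X.mul_mem (X.inv_mem (X.mul_mem (h.hU a c hc) hg')) hg
  have h1 : (((uW a c * g')⁻¹ * g) (t0, 0, 0)).2.2 = 0 := s_eq_zero H fun t => by
    rw [← inv_ap (uW a c * g') (t, 0, 0), ap_mul]
    refine h.perp H (X.inv_mem (X.mul_mem (h.hU a c hc) hg')) ?_
    obtain ⟨s', hs'⟩ := (e' _).1 ⟨t, rfl⟩
    have hρ' := congrArg star hρ
    rw [ap_mul, hs', ht]
    simp [hκ, hθ] at hρ hρ'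
    simp [UF.hB, hH]
    linear_combination star s' * hρ - s' * hρ'
  have h2 : ∀ t, (((uW a c * g')⁻¹ * g) (t, 0, 0)).2 = 0 := by
    by_contra h3
    have hb := h.bij H hx (by simpa using h3)
    have : t0 = 0 := hb.1 (by
      dsimp only
      rw [h1, show ((0, 0, 0) : k × k × k) = 0 from rfl, map_zero]; rfl)
    rw [this, show ((0, 0, 0) : k × k × k) = 0 from rfl, map_zero] at ht
    exact hs (congrArg (fun v => v.2.2) ht).symm
  intro t
  have := fx_inv h2 t
  rwa [mul_inv_rev, inv_inv, ← mul_assoc] at this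

/-- Normal form of the other conjugates. -/
theorem WH.normal_form {g : AA (k × k × k)} (hg : g ∈ X) (hne : ∃ t, (g (t, 0, 0)).2 ≠ 0) :
    ∃ a c, c + star c + a * star a = 0 ∧ ∃ β γ ε : k, γ + star γ = β * star β ∧ 2 * β = 0 ∧
      Gr (uW a c * g) β γ ε := by
  obtain ⟨a, c, hc, β, γ, ε, h1, e⟩ := h.pre_form H hg hne
  refine ⟨a, c, hc, β, γ, ε, h1, ?_, e⟩
  by_contra h2
  have hx := X.mul_mem (h.hU a c hc) hg
  have h3 := congrArg star h1
  have hc' : -8 * (β * star β) + star (-8 * (β * star β)) + 4 * β * star (4 * β) = 0 := by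
    simp; ring
  refine Gr.ne e (h.fix_of_stab H hx hc' (fun h0 => h2 ?_) (h.pair H hx hx e e hc' rfl rfl ?_))
  · have := congrArg (fun x : AA (k × k × k) => (x (0, 0, 1)).2.1) h0
    simp at this
    rcases this with h4 | h4
    · have : (2 : k) * 2 = 0 := by linear_combination h4
      simp [mul_self_eq_zero.1 this]
    · simp [h4]
  · simp
    linear_combination (γ + star γ - 17 * (β * star β)) * h1

/-- The unipotent group is transitive on the other conjugates. -/
theorem WH.trans {g g' : AA (k × k × k)} (hg : g ∈ X) (hg' : g' ∈ X)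
    (hne : ∃ t, (g (t, 0, 0)).2 ≠ 0) (hne' : ∃ t, (g' (t, 0, 0)).2 ≠ 0) :
    ∃ a c : k, c + star c + a * star a = 0 ∧ ∀ t : k, ((g'⁻¹ * uW a c * g) (t, 0, 0)).2 = 0 := by
  obtain ⟨a1, c1, hc1, β', γ', ε', h1', h2', e'⟩ := h.normal_form H hg hne
  obtain ⟨a2, c2, hc2, β, γ, ε, h1, h2, e⟩ := h.normal_form H hg' hne'
  obtain ⟨a, κ, ht, hN⟩ : ∃ a κ : k, κ + star κ = (β - β') * star (β - β') - a * star a ∧
      κ * star κ = (ε - ε' + star a * (β + β')) * star (ε - ε' + star a * (β + β')) := by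
    by_cases h0 : (2 : k) = 0
    · have hi : Function.Injective fun x : k => x * x := fun x y hxy => by
        have : (x - y) * (x - y) = 0 := by
          linear_combination hxy + (y * y - x * y) * h0
        exact sub_eq_zero.1 (mul_self_eq_zero.1 this)
      set θ := ε - ε' + star (β - β') * (β + β')
      obtain ⟨κ, hκ⟩ := Finite.injective_iff_surjective.1 hi (θ * star θ)
      have hs : star κ = κ := hi (by
        have := congrArg star hκ
        simp only [star_mul', star_star] at this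
        dsimp only at hκ ⊢
        rw [this, hκ, mul_comm])
      exact ⟨β - β', κ, by rw [hs]; linear_combination κ * h0, by rw [hs]; exact hκ⟩
    · have hβ : β = 0 := (mul_eq_zero.1 h2).resolve_left h0
      have hβ' : β' = 0 := (mul_eq_zero.1 h2').resolve_left h0
      obtain ⟨a, ha⟩ := exists_nm H (a := -(ε - ε' + star (ε - ε'))) (by simp; ring)
      exact ⟨a, ε - ε', by simp [hβ, hβ', ha], by simp [hβ, hβ']⟩
  have hc : star (κ - γ - star γ' + star β * β') + star (star (κ - γ - star γ' + star β * β')) +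
      a * star a = 0 := by
    simp at ht ⊢
    linear_combination ht - h1 - h1'
  have h3 := h.pair H (X.mul_mem (h.hU _ _ hc2) hg') (X.mul_mem (h.hU _ _ hc1) hg) e e' hc
    (κ := κ) (by simp; ring) rfl hN
  rw [mul_inv_rev, mul_assoc g'⁻¹, mul_assoc g'⁻¹, ← mul_assoc _ (uW a1 c1), uW_inv, uW_mul,
    uW_mul, ← mul_assoc] at h3
  refine ⟨_, _, ?_, h3⟩
  simp at hc ⊢
  linear_combination hc + hc1 - hc2

end Cfsg.Agent.UF
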