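import Mathlib
import Cfsg.Agent.UF.LinWb

/-! The group induced on `Q1 / Z1` contains the standard `SU₃`. -/

set_option autoImplicit false
set_option linter.unusedSectionVars false
set_option linter.unusedVariables false

namespace Cfsg.Agent.UF

open Subgroup Cfsg.FusionSystem Cfsg.Agent.Fus Cfsg.Agent.Cl Cfsg.Agent.Oc
open scoped commutatorElement

universe u

variable {k : Type u} [Field k] [StarRing k] [Finite k] {p q : ℕ} [Fact p.Prime] [CharP k p]

namespace Wc

/-- An isometry commuting with the unipotent group. -/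
def eta (β γ ε : k) : AA (k × k × k) := AddEquiv.toIntLinearEquiv
  { toFun := fun v => (v.1 + β * star v.2.1 + γ * v.2.2 + ε * star v.2.2, v.2.1 + β * star v.2.2, v.2.2)
    invFun := fun v => (v.1 - β * star v.2.1 + β * star β * v.2.2 - γ * v.2.2 - ε * star v.2.2,
      v.2.1 - β * star v.2.2, v.2.2)
    left_inv := fun v => by ext <;> simp; ring
    right_inv := fun v => by ext <;> simp; ring
    map_add' := fun v v' => by ext <;> simp <;> ring }

@[simp] theorem eta_apply (β γ ε : k) (v : k × k × k) : eta β γ ε v =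
    (v.1 + β * star v.2.1 + γ * v.2.2 + ε * star v.2.2, v.2.1 + β * star v.2.2, v.2.2) := rfl

theorem eta_uW {β : k} (h2 : 2 * β = 0) (γ ε a c : k) (v : k × k × k) :
    uW a c (eta β γ ε v) = eta β γ ε (uW a c v) := by
  ext <;> simp
  · linear_combination (-star a * star v.2.2) * h2
  · ring

theorem hB_eta {β γ : k} (hγ : γ + star γ = β * star β) (ε : k) (v v' : k × k × k) :
    hB (eta β γ ε v) (eta β γ ε v') = hB v v' := by
  simp only [hB, hH, eta_apply, star_add, star_mul', star_star]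
  linear_combination (v.2.2 * star v'.2.2 - star v.2.2 * v'.2.2) * hγ

theorem hB_uW {a c : k} (hc : c + star c + a * star a = 0) (v v' : k × k × k) :
    hB (uW a c v) (uW a c v') = hB v v' := by
  simp only [hB, hH, uW_apply, star_add, star_sub, star_mul', star_star]
  linear_combination (v.2.2 * star v'.2.2 - star v.2.2 * v'.2.2) * hc

theorem uW_mul_uW {a c : k} (hc : c + star c + a * star a = 0) : uW a c * uW (-a) (star c) = 1 := by
  refine LinearEquiv.ext fun v => ?_
  ext <;> simp [LinearEquiv.mul_apply]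
  linear_combination v.2.2 * hc

theorem fx_inv {g : AA (k × k × k)} (h : ∀ t, (g (t, 0, 0)).2 = 0) (t : k) :
    (g⁻¹ (t, 0, 0)).2 = 0 := by
  have e : ∀ t, g (t, 0, 0) = ((g (t, 0, 0)).1, 0, 0) := fun t => Prod.ext rfl (h t)
  obtain ⟨t', ht⟩ := Finite.injective_iff_surjective.1 (show Function.Injective fun t => (g (t, 0, 0)).1 from
    fun t t' e' => congrArg Prod.fst (g.injective (Prod.ext e' ((h t).trans (h t').symm)) : ((t, 0, 0) : k × k × k) = (t', 0, 0))) t
  rw [← show g (t', 0, 0) = (t, 0, 0) from (e t').trans (Prod.ext ht rfl)]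
  exact congrArg Prod.snd (g.symm_apply_apply _)

variable (H : UField (starRingEnd k) q)
include H

theorem indep {A B : k} (h : ∀ s, A * s + B * star s = 0) : A = 0 ∧ B = 0 := by
  obtain ⟨θ, hθ⟩ := exists_star_ne H
  have h1 := h 1
  have h2 := h θ
  rw [star_one] at h1
  have : B = 0 := (mul_eq_zero.1 (show B * (star θ - θ) = 0 by linear_combination h2 - θ * h1)).resolve_right
    (sub_ne_zero.2 hθ)
  exact ⟨by simpa [this] using h1, this⟩

variable {X : Subgroup (AA (k × k × k))} {K : Subgroup (Sd k)} (h : WH p X K) {g : AA (k × k × k)}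
  {β γ ε : k} (hg : g ∈ X) (hγ : γ + star γ = β * star β) (h2 : 2 * β = 0) (hG : Gr g β γ ε)
include h hg hγ h2 hG

theorem lower {a c : k} (hc : c + star c + a * star a = 0) (h0 : c ≠ 0) : ∃ x ∈ X, ∀ v : k × k × k,
    x (eta β γ ε v) = eta β γ ε (v.1, v.2.1 + a / c * v.1, v.2.2 - star (a / c) * v.2.1 + c⁻¹ * v.1) := by
  set η := eta β γ ε with hη
  have e1 : ∀ s, ∃ t, g (t, 0, 0) = η (0, 0, s) := fun s => (hG _).2 ⟨s, by simp [hη]⟩
  have e2 : ∀ t, ∃ s, g (t, 0, 0) = η (0, 0, s) := fun t => by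
    obtain ⟨s, hs⟩ := (hG _).1 ⟨t, rfl⟩
    exact ⟨s, by simp [hη, hs]⟩
  have ng : ¬ ∀ t, (g (t, 0, 0)).2 = 0 := fun e => by
    obtain ⟨t, ht⟩ := e1 1
    simpa [ht, hη] using congrArg Prod.snd (e t)
  have hu : uW a c ≠ 1 := fun e => h0 (by simpa using congrArg (fun f : AA (k × k × k) => (f (0, 0, 1)).1) e)
  obtain ⟨a1, c1, hc1, e⟩ := h.trans H (inv_mem hg) (mul_mem (mul_mem (inv_mem hg) (h.hU a c hc)) hg)
    (by by_contra! e; exact ng (by simpa using fx_inv e))
    (by by_contra! e; exact ng (h.fix_of_stab H hg hc hu e))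
  have hx : g * uW a1 c1 * g⁻¹ ∈ X := mul_mem (mul_mem hg (h.hU a1 c1 hc1)) (inv_mem hg)
  set x := g * uW a1 c1 * g⁻¹ with hxd
  have xg : ∀ v, x (g v) = g (uW a1 c1 v) := fun v => by simp [hxd, LinearEquiv.mul_apply]
  have iso : ∀ v v', hB (x v) (x v') = hB v v' := fun v v' => by
    obtain ⟨v, rfl⟩ := g.surjective v
    obtain ⟨v', rfl⟩ := g.surjective v'
    rw [xg, xg]
    exact h.hB g hg _ _ _ _ (hB_uW hc1 v v')
  let y := η⁻¹ * x * η
  have xy : ∀ v, x (η v) = η (y v) := fun v => by simp [y, LinearEquiv.mul_apply]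
  have isy : ∀ v v', hB (y v) (y v') = hB v v' := fun v v' => by
    rw [← hB_eta hγ ε, ← xy, ← xy, iso, hB_eta hγ]
  have y3 : ∀ s, y (0, 0, s) = (0, 0, s) := fun s => η.injective (by
    obtain ⟨t, ht⟩ := e1 s
    rw [← xy, ← ht, xg]; simp)
  have y1 : ∀ v, (y v).1 = v.1 := fun v => sub_eq_zero.1 (eq_zero_of_im H fun s => by
    have := isy v (0, 0, s)
    rw [y3] at this
    simp only [hB, hH, star_zero, mul_zero, add_zero, star_mul', star_star, star_sub] at this ⊢
    linear_combination -this)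
  have ya : ∀ t, y (t, 0, 0) = (t, a / c * t, c⁻¹ * t) := fun t => by
    obtain ⟨t', ht'⟩ : ∃ t', x (t, 0, 0) = uW a c (g (t', 0, 0)) := by
      refine ⟨(((g⁻¹ * uW a c * g)⁻¹ * uW a1 c1 * g⁻¹) (t, 0, 0)).1, ?_⟩
      rw [show (_, (0 : k), (0 : k)) = ((g⁻¹ * uW a c * g)⁻¹ * uW a1 c1 * g⁻¹) (t, 0, 0) from
        Prod.ext rfl (e t).symm]
      simp [hxd, LinearEquiv.mul_apply, -uW_apply]
    obtain ⟨s, hs⟩ := e2 t'
    have h3 : y (t, 0, 0) = (c * s, a * s, s) := η.injective (by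
      rw [← xy, show η (t, 0, 0) = (t, 0, 0) by simp [hη], ht', hs, eta_uW h2]; simp [hη])
    have h4 : c * s = t := by simpa [h3] using y1 (t, 0, 0)
    rw [h3, ← h4]
    ext <;> simp <;> field_simp
  have yb : ∀ w, y (0, w, 0) = (0, w, -(star (a / c) * w)) := fun w => by
    obtain ⟨v, hv⟩ := g.surjective (η (0, w, 0))
    have h3 : v.2.2 = 0 := eq_zero_of_im H fun t => by
      obtain ⟨s, hs⟩ := e2 t
      have := h.hB g⁻¹ (inv_mem hg) (η (0, w, 0)) (η (0, 0, s)) 0 0 (by rw [hB_eta hγ]; simp [hB, hH])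
      rw [← hv, ← hs] at this
      simp [hB, hH] at this
      linear_combination -this
    obtain ⟨s, hs⟩ := e2 (-(star a1 * v.2.1))
    have h4 : y (0, w, 0) = (0, w, s) := η.injective (by
      rw [← xy, ← hv, xg, show ((0, w, s) : k × k × k) = (0, w, 0) + (0, 0, s) by simp, map_add, ← hv,
        ← hs, ← map_add]
      congr 1
      ext <;> simp [h3]; ring)
    have h5 : s + star (a / c) * w = 0 := eq_zero_of_im H fun t => by
      have := isy (t, 0, 0) (0, w, 0)
      rw [ya, h4] at this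
      simp only [hB, hH, star_zero, mul_zero, add_zero, star_mul', star_star, star_add, zero_mul] at this ⊢
      linear_combination this
    rw [h4, eq_neg_of_add_eq_zero_left h5]
  refine ⟨x, hx, fun v => ?_⟩
  have hv : y v = y (v.1, 0, 0) + y (0, v.2.1, 0) + y (0, 0, v.2.2) := by
    rw [← map_add, ← map_add]; simp
  rw [xy, hv, ya, yb, y3]
  congr 1
  ext <;> simp <;> ring

theorem weyl {c : k} (h0 : c ≠ 0) : ∃ x ∈ X, ∀ v : k × k × k,
    x (eta β γ ε v) = eta β γ ε (v.2.2 / star c, -(star c / c * v.2.1), c * v.1) := by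
  obtain ⟨a, ha⟩ := exists_nm H (a := -(c + star c)) (by simp [add_comm])
  have h0' : star c ≠ 0 := star_ne_zero.2 h0
  obtain ⟨x, hx, e⟩ := lower H h hg hγ h2 hG (a := a / c) (c := c⁻¹)
    (by simp; field_simp; linear_combination ha) (inv_ne_zero h0)
  refine ⟨uW (-(a / c)) (star c)⁻¹ * x * uW (-(a / star c)) (star c)⁻¹, mul_mem (mul_mem (h.hU _ _ ?_) hx)
    (h.hU _ _ ?_), fun v => ?_⟩
  · simp; field_simp; linear_combination ha
  · simp; field_simp; linear_combination ha
  · rw [LinearEquiv.mul_apply, LinearEquiv.mul_apply, eta_uW h2, e, eta_uW h2]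
    congr 1
    ext <;> simp <;> field_simp
    · linear_combination ((v.1 * c + star a * v.2.1) * star c + c * v.2.2) * ha
    · linear_combination (v.2.1 * star c - a * v.2.2) * ha
    · linear_combination v.2.2 * ha

theorem torus {l : k} (hl : l ≠ 0) : Sd.tor1 l hl ∈ K ∧ (l - 1) * β = 0 ∧ (star l ^ 2 - 1) * ε = 0 := by
  have hl' : star l ≠ 0 := star_ne_zero.2 hl
  obtain ⟨x, hx, e⟩ := weyl H h hg hγ h2 hG one_ne_zero
  obtain ⟨x', hx', e'⟩ := weyl H h hg hγ h2 hG hl'
  have e1 : ∀ v : k × k × k, (x * x') (eta β γ ε v) =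
      eta β γ ε (star l * v.1, l / star l * v.2.1, v.2.2 / l) := fun v => by
    rw [LinearEquiv.mul_apply, e', e]; simp
  obtain ⟨a, c, hc, δ, hδ, e2⟩ := h.hN _ (mul_mem hx hx') fun t => by
    simpa [Prod.ext_iff] using congrArg Prod.snd (e1 (t, 0, 0))
  rw [e2] at e1
  have h3 : ∀ s, δ.a * δ.τ s = s / l := fun s => by
    simpa [LinearEquiv.mul_apply] using congrArg (fun v => v.2.2) (e1 (0, 0, s))
  have h4 : δ.a = l⁻¹ := by simpa using h3 1
  have h5 : ∀ s, δ.τ s = s := fun s => mul_left_cancel₀ δ.ha (by rw [h3, h4, div_eq_inv_mul])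
  have h6 : δ.b = l ^ 2 / star l := by
    have : δ.a * δ.b = l / star l := by
      simpa [LinearEquiv.mul_apply] using congrArg (fun v => v.2.1) (e1 (0, 1, 0))
    rw [h4] at this
    field_simp at this ⊢
    exact this
  have h7 := indep H (A := a / l) (B := (l - 1) * β / star l) fun s => by
    have := congrArg (fun v => v.2.1) (e1 (0, 0, s))
    simp [LinearEquiv.mul_apply, h4, h5, h6] at this
    field_simp at this ⊢
    linear_combination this
  have h8 : a = 0 := by simpa [hl] using h7.1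
  have h9 := indep H (A := star l * γ + c / l - γ / l) (B := (star l ^ 2 - 1) * ε / star l) fun s => by
    have := congrArg (fun v => v.1) (e1 (0, 0, s))
    simp [LinearEquiv.mul_apply, h4, h5, h6, h8] at this
    field_simp at this ⊢
    linear_combination this
  exact ⟨(show δ = Sd.tor1 l hl from Sd.ext h4 h6 (RingEquiv.ext h5)) ▸ hδ, by simpa [hl', -mul_eq_zero] using h7.2,
    by simpa [hl', -mul_eq_zero] using h9.2⟩

end Wc

open Wc

variable (H : UField (starRingEnd k) q) {X : Subgroup (AA (k × k × k))} {K : Subgroup (Sd k)}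
  (h : WH p X K)
include H h

theorem WH.main (hne : ∃ g ∈ X, ∃ t, (g (t, 0, 0)).2 ≠ 0) :
    (∀ l (hl : l ≠ 0), Sd.tor1 l hl ∈ K) ∧ nW ∈ X ∧ ∀ g ∈ X, (∀ t, (g (t, 0, 0)).2 = 0) ∨
      ∃ a c, c + star c + a * star a = 0 ∧ ∀ t, (((uW a c * nW)⁻¹ * g) (t, 0, 0)).2 = 0 := by
  obtain ⟨g, hg, hne⟩ := hne
  obtain ⟨a, c, hc, β, γ, ε, hγ, h2, hG⟩ := h.normal_form H hg hne
  have hg' := mul_mem (h.hU a c hc) hg
  obtain ⟨l, hl, hl'⟩ := H.invol.exists_norm_one_ne
  rw [starRingEnd_apply] at hl hl'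
  have h0 : l ≠ 0 := left_ne_zero_of_mul_eq_one hl
  obtain ⟨-, h3, h4⟩ := torus H h hg' hγ h2 hG h0
  obtain rfl : β = 0 := (mul_eq_zero.1 h3).resolve_left fun e => hl' (by simp [sub_eq_zero.1 e])
  obtain rfl : ε = 0 := (mul_eq_zero.1 h4).resolve_left fun e => hl' (by
    linear_combination l * e - star l * hl)
  have hn : nW ∈ X := by
    obtain ⟨x, hx, e⟩ := weyl H h hg' hγ h2 hG one_ne_zero
    have hu := h.hU 0 γ (by simpa using hγ)
    have e1 : ∀ v, eta 0 γ 0 v = uW 0 γ v := fun v => by simp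
    convert mul_mem (mul_mem (inv_mem hu) hx) hu using 1
    refine LinearEquiv.ext fun v => (uW 0 γ).injective ?_
    rw [LinearEquiv.mul_apply, LinearEquiv.mul_apply, ← e1 v, e, e1]
    simp [-uW_apply]
  refine ⟨fun l hl => (torus H h hg' hγ h2 hG hl).1, hn, fun g hg => ?_⟩
  by_cases hf : ∀ t, (g (t, 0, 0)).2 = 0
  · exact .inl hf
  obtain ⟨a, c, hc, e⟩ := h.trans H hg hn (not_forall.1 hf) ⟨1, by simp⟩
  refine .inr ⟨-a, star c, by simp; linear_combination hc, ?_⟩
  rwa [mul_inv_rev, ← eq_inv_of_mul_eq_one_left (uW_mul_uW hc)]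

end Cfsg.Agent.UF
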