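import Mathlib
import Cfsg.Agent.UF.LinWc
import Cfsg.Agent.UF.Ext
import Cfsg.Agent.UF.Aut

/-! The automizer of `Q1`. -/

set_option autoImplicit false
set_option linter.unusedSectionVars false
set_option linter.unusedVariables false

namespace Cfsg.Agent.UF

open Subgroup Cfsg.FusionSystem Cfsg.Agent.Fus Cfsg.Agent.Cl Cfsg.Agent.Oc
open scoped commutatorElement

universe u

variable {k : Type u} [Field k] [StarRing k] [Finite k] {p q : ℕ} [Fact p.Prime] [CharP k p]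

namespace Br1

theorem exists_co (H : UField (starRingEnd k) q) (v : k × k × k) :
    ∃ x ∈ Q1 k, (x.t, x.w, x.s) = v := by
  obtain ⟨x, h1, h2, h3, h4, h5, -⟩ := exists_el H v.2.2 0 v.2.1 v.1
  exact ⟨x, ⟨h2, h5 rfl⟩, Prod.ext h4 (Prod.ext h3 h1)⟩

theorem exists_cm (H : UField (starRingEnd k) q) {x : U5 k} (hx : x ∈ Z1 k) :
    ∃ a ∈ Q1 k, ∃ b ∈ Q1 k, x = ⁅a, b⁆ := by
  obtain ⟨h1, h2, h3, h4, h5⟩ := hx
  obtain ⟨y, hy⟩ := exists_im H (s := 1) (d := x.z) one_ne_zero (by simp [h3])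
  obtain ⟨a, ha, ea⟩ := exists_co H (0, 0, 1)
  obtain ⟨b, hb, eb⟩ := exists_co H (y, 0, 0)
  simp only [Prod.mk.injEq] at ea eb
  refine ⟨a, ha, b, hb, ?_⟩
  rw [star_one] at hy
  ext <;> simp [ha.1, ha.2, hb.1, hb.2, ea, eb, h1, h2, h3, h4, h5, -U5.star_c, -U5.star_z]
  linear_combination -hy

theorem Z1_le_Fr (H : UField (starRingEnd k) q) : Z1 k ≤ Fr p (Q1 k) := fun x hx => by
  obtain ⟨a, ha, b, hb, rfl⟩ := exists_cm H hx
  exact cm_Fr ha hb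

theorem co_mul {x y : U5 k} (hy : y ∈ Q1 k) :
    ((x * y).t, (x * y).w, (x * y).s) = (x.t, x.w, x.s) + (y.t, y.w, y.s) := by
  simp [hy.1, hy.2]

/-- Additive functions on `Q1` factor through `(t, w, s)`. -/
theorem exists_factor (H : UField (starRingEnd k) q) {A : Type*} [AddCommGroup A] {E : U5 k → A}
    (hE : ∀ x ∈ Q1 k, ∀ y ∈ Q1 k, E (x * y) = E x + E y) :
    ∃ φ : k × k × k →+ A, ∀ x ∈ Q1 k, E x = φ (x.t, x.w, x.s) := by
  have hm : MulOn (Q1 k) fun x => Multiplicative.ofAdd (E x) := fun x hx y hy =>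
    congrArg Multiplicative.ofAdd (hE x hx y hy)
  have h0 : ∀ x ∈ Z1 k, E x = 0 := fun x hx => by
    obtain ⟨a, ha, b, hb, rfl⟩ := exists_cm H hx
    exact ofAdd_eq_one.1 ((hm.map_commutatorElement ha hb).trans
      (commutatorElement_eq_one_iff_mul_comm.2 (mul_comm _ _)))
  have h1 : ∀ x ∈ Q1 k, ∀ y ∈ Q1 k, (x.t, x.w, x.s) = (y.t, y.w, y.s) → E y = E x :=
    fun x hx y hy e => by
      simp only [Prod.mk.injEq] at e
      have hv : x⁻¹ * y ∈ Z1 k := by simp [hx.1, hx.2, hy.1, hy.2, e]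
      rw [← mul_inv_cancel_left x y, hE x hx _ (mul_mem (inv_mem hx) hy), h0 _ hv, add_zero]
  choose σ hσ eσ using exists_co H
  refine ⟨AddMonoidHom.mk' (fun v => E (σ v)) fun v v' => ?_, fun x hx => h1 _ (hσ _) x hx (eσ _)⟩
  rw [← hE _ (hσ v) _ (hσ v')]
  refine h1 _ (mul_mem (hσ v) (hσ v')) _ (hσ _) ?_
  rw [eσ, co_mul (hσ _), eσ, eσ]

variable {F : FusionSystem (⊤ : Subgroup (U5 k))}

theorem exists_bar (H : UField (starRingEnd k) q) {f : U5 k → U5 k} (hf : F.Iso (Q1 k) (Q1 k) f) :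
    ∃ g : AA (k × k × k), ∀ x ∈ Q1 k, ((f x).t, (f x).w, (f x).s) = g (x.t, x.w, x.s) := by
  obtain ⟨φ, hφ⟩ := exists_factor H (E := fun x => ((f x).t, (f x).w, (f x).s)) fun x hx y hy => by
    rw [hf.mor.map_mul hx hy, co_mul (hf.maps y hy)]
  have hs : Function.Surjective φ := fun v => by
    obtain ⟨y, hy, rfl⟩ := exists_co H v
    obtain ⟨x, hx, rfl⟩ := hf.surj y hy
    exact ⟨_, (hφ x hx).symm⟩
  exact ⟨(AddEquiv.ofBijective φ hs.bijective_of_finite).toIntLinearEquiv, hφ⟩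

/-- The image of the automizer of `Q1` on `Q1 / Z1`. -/
def XW (F : FusionSystem (⊤ : Subgroup (U5 k))) : Subgroup (AA (k × k × k)) where
  carrier := {g | ∃ f, F.Iso (Q1 k) (Q1 k) f ∧
    ∀ x ∈ Q1 k, ((f x).t, (f x).w, (f x).s) = g (x.t, x.w, x.s)}
  one_mem' := ⟨_, F.iso_id le_top, fun _ _ => rfl⟩
  mul_mem' := by
    rintro g g' ⟨f, hf, e⟩ ⟨f', hf', e'⟩
    exact ⟨_, hf.comp hf', fun x hx => by rw [e _ (hf'.maps x hx), e' x hx]; rfl⟩
  inv_mem' := by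
    rintro g ⟨f, hf, e⟩
    obtain ⟨f', hf', -, h2⟩ := hf.inv
    refine ⟨f', hf', fun x hx => g.injective ?_⟩
    rw [← e _ (hf'.maps x hx), h2 x hx]
    exact (g.apply_symm_apply _).symm

theorem conj_Q1 (g : U5 k) {x : U5 k} (hx : x ∈ Q1 k) : g * x * g⁻¹ ∈ Q1 k := by
  simp [hx.1, hx.2]; ring

theorem iso_conj' (g : U5 k) : F.Iso (Q1 k) (Q1 k) fun x => g * x * g⁻¹ :=
  (F.mor_conj le_top (mem_top g)).iso_self fun _ hx => conj_Q1 g hx

theorem co_conj (g : U5 k) {x : U5 k} (hx : x ∈ Q1 k) :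
    ((g * x * g⁻¹).t, (g * x * g⁻¹).w, (g * x * g⁻¹).s) = uW g⁻¹.u g⁻¹.c (x.t, x.w, x.s) := by
  ext <;> simp [hx.1, hx.2] <;> ring

theorem iso_ap {γ : Sd k} (h : γ ∈ KF F) : F.Iso (Q1 k) (Q1 k) γ.ap :=
  ((mem_KF F).1 h).mono le_top |>.iso_self fun x hx => by simp [hx.1, hx.2]

theorem exists_uc {a c : k} (h : c + star c + a * star a = 0) : ∃ g : U5 k, g⁻¹.u = a ∧ g⁻¹.c = c :=
  ⟨(⟨0, a, 0, c, 0, 0, h, by simp⟩ : U5 k)⁻¹, by rw [inv_inv], by rw [inv_inv]⟩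

theorem cm_z' {x y : U5 k} (hx : x ∈ Q1 k) (hy : y ∈ Q1 k) :
    ⁅x, y⁆.z = -hB (x.t, x.w, x.s) (y.t, y.w, y.s) := by
  simp [hx.1, hx.2, hy.1, hy.2, hB, hH]; ring

theorem ext_of_keep (H : UField (starRingEnd k) q) (hF : F.IsSaturated p) {f : U5 k → U5 k}
    (hf : F.Iso (Q1 k) (Q1 k) f) {g : AA (k × k × k)}
    (e : ∀ x ∈ Q1 k, ((f x).t, (f x).w, (f x).s) = g (x.t, x.w, x.s))
    (hg : ∀ t, (g (t, 0, 0)).2 = 0) : ∃ g, F.Mor ⊤ g ∧ ∀ x ∈ Q1 k, f x = g x := by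
  have l2 : Z2 k ≤ Q1 k := fun x hx => ⟨hx.2.1, hx.2.2.2⟩
  have k2 : ∀ x ∈ Z2 k, f x ∈ Z2 k := fun x hx => by
    have := congrArg Prod.snd (e x (l2 hx))
    rw [hx.1, hx.2.2.1, hg] at this
    have m := hf.maps x (l2 hx)
    exact ⟨congrArg Prod.snd this, m.1, congrArg Prod.fst this, m.2⟩
  refine ext_of_chain (isPGroup_U5 H) hF
    (fun i => if i = 0 then Q1 k else if i = 1 then D5 k else if i = 2 then Z2 k else Z1 k)
    3 rfl (Z1_le_Fr H) (fun i hi => ?_) (fun g x hx => conj_Q1 g hx) (fun i hi g x hx => ?_)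
    (fun i hi g x hx => ?_) hf fun i hi x hx => ?_
  · interval_cases i
    · exact fun x hx => hx.2
    · exact fun x hx => ⟨hx.1, hx.2.1, hx.2.2.2⟩
    · exact fun x hx => ⟨hx.1, hx.2.1, hx.2.2.1, hx.2.2.2.1⟩
  · interval_cases i
    · replace hx : x ∈ Q1 k := hx
      show _ ∈ D5 k
      simp [hx.1]
    · replace hx : x ∈ D5 k := hx
      show _ ∈ Z2 k
      simp [hx.1, hx.2.1]
    · replace hx : x ∈ Z2 k := hx
      show _ ∈ Z1 k
      simp [hx.1, hx.2.1, hx.2.2.1, hx.2.2.2]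
  · interval_cases i
    · exact conj_Q1 g hx
    · replace hx : x ∈ D5 k := hx
      show _ ∈ D5 k
      simp [hx.1, hx.2.1, hx.2.2]; ring
    · replace hx : x ∈ Z2 k := hx
      show _ ∈ Z2 k
      simp [hx.1, hx.2.1, hx.2.2.1, hx.2.2.2]; ring
    · replace hx : x ∈ Z1 k := hx
      show _ ∈ Z1 k
      simp [hx.1, hx.2.1, hx.2.2.1, hx.2.2.2.1, hx.2.2.2.2]
      constructor <;> ring
  · interval_cases i
    · exact hf.maps x hx
    · replace hx : x ∈ D5 k := hx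
      have m := hf.maps x hx.2
      refine ⟨eq_zero_of_im H fun t => ?_, m⟩
      obtain ⟨y, hy, ey⟩ := exists_co H (t, 0, 0)
      simp only [Prod.mk.injEq] at ey
      have hy2 : y ∈ Z2 k := ⟨ey.2.2, hy.1, ey.2.1, hy.2⟩
      obtain ⟨y', hy', rfl⟩ := ((hf.mor.mono l2).iso_self k2).surj y hy2
      have hc : ⁅x, y'⁆ = 1 := by
        ext <;> simp [hx.1, hx.2.1, hx.2.2, hy'.1, hy'.2.1, hy'.2.2.1, hy'.2.2.2]
      have := congrArg U5.z ((hf.mor.mulOn.map_commutatorElement hx.2 (l2 hy')).symm.trans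
        ((congrArg f hc).trans hf.mor.map_one))
      rw [cm_z' m hy, ey.1, ey.2.1, ey.2.2] at this
      simp [hB, hH] at this
      linear_combination this
    · exact k2 x hx
    · replace hx : x ∈ Z1 k := hx
      have m : x ∈ Q1 k := ⟨hx.2.1, hx.2.2.2.1⟩
      have := e x m
      rw [hx.1, hx.2.2.1, hx.2.2.2.2, show ((0, 0, 0) : k × k × k) = 0 from rfl, map_zero] at this
      simp only [Prod.mk_eq_zero] at this
      exact ⟨this.2.2, (hf.maps x m).1, this.2.1, (hf.maps x m).2, this.1⟩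

theorem wh (H : UField (starRingEnd k) q) (hF : F.IsSaturated p) (hS : Std F) :
    WH p (XW F) (KF F) where
  hU a c h := by
    obtain ⟨g, rfl, rfl⟩ := exists_uc h
    exact ⟨_, iso_conj' g, fun x hx => co_conj g hx⟩
  hB := by
    rintro g ⟨f, hf, e⟩ v v' w w' h
    obtain ⟨x, hx, rfl⟩ := exists_co H v
    obtain ⟨x', hx', rfl⟩ := exists_co H v'
    obtain ⟨y, hy, rfl⟩ := exists_co H w
    obtain ⟨y', hy', rfl⟩ := exists_co H w'
    have hc : ⁅x, x'⁆ = ⁅y, y'⁆ := by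
      ext
      iterate 5 simp [hx.1, hx.2, hx'.1, hx'.2, hy.1, hy.2, hy'.1, hy'.2]
      rw [cm_z' hx hx', cm_z' hy hy', h]
    have := congrArg U5.z ((hf.mor.mulOn.map_commutatorElement hx hx').symm.trans
      ((congrArg f hc).trans (hf.mor.mulOn.map_commutatorElement hy hy')))
    rwa [cm_z' (hf.maps x hx) (hf.maps x' hx'), cm_z' (hf.maps y hy) (hf.maps y' hy'), neg_inj,
      e x hx, e x' hx', e y hy, e y' hy'] at this
  hK γ hγ := ⟨_, iso_ap hγ, fun _ _ => rfl⟩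
  hN := by
    rintro g ⟨f, hf, e⟩ hg
    obtain ⟨g', hg', e'⟩ := ext_of_keep H hF hf e hg
    obtain ⟨y, γ, hγ, e''⟩ := hS g' hg'
    refine ⟨y⁻¹.u, y⁻¹.c, y⁻¹.hc, γ, hγ, LinearEquiv.ext fun v => ?_⟩
    obtain ⟨x, hx, rfl⟩ := exists_co H v
    rw [← e x hx, e' x hx, e'', co_conj y ((iso_ap hγ).maps x hx)]
    rfl
  hp γ hγ j h := eq_one_of_mem_KF H hF hγ h

theorem n1_mor (H : UField (starRingEnd k) q) (hE : F.IsEssential p (Q1 k))
    (h1 : ∀ l (hl : l ≠ 0), Sd.tor1 l hl ∈ KF F) (hn : nW ∈ XW F) : F.Mor (Q1 k) n1 := by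
  obtain ⟨f, hf, e⟩ := hn
  replace e : ∀ x ∈ Q1 k, (f x).t = x.s ∧ (f x).w = -x.w ∧ (f x).s = x.t := fun x hx => by
    simpa using e x hx
  obtain ⟨φ, hφ⟩ := exists_factor H (E := fun x => (f x).z - (n1 x).z) fun x hx y hy => by
    rw [hf.mor.map_mul hx hy, n1_mul hx hy]
    simp [(hf.maps y hy).1, (hf.maps y hy).2, e x hx, e y hy, n1]; ring
  obtain ⟨l, hl⟩ := exists_star_ne H
  have l0 : l ≠ 0 := by rintro rfl; exact hl (star_zero _)
  have l1 : star l ≠ 0 := star_ne_zero.2 l0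
  have i1 := iso_ap (h1 l l0)
  have i2 := iso_ap (h1 _ (inv_ne_zero l1))
  set δ := Sd.tor1 l l0 with hδ
  set γ := Sd.tor1 _ (inv_ne_zero l1) with hγ
  have eγ : ∀ x : U5 k, (γ.ap x).t = l⁻¹ * x.t ∧ (γ.ap x).w = l / star l * x.w ∧
      (γ.ap x).s = star l * x.s ∧ (γ.ap x).z = x.z := fun x => by
    refine ⟨?_, ?_, ?_, ?_⟩ <;> simp [hγ] <;> field_simp <;> simp
  have eδ : ∀ x : U5 k, (δ.ap x).t = star l * x.t ∧ (δ.ap x).w = l / star l * x.w ∧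
      (δ.ap x).s = l⁻¹ * x.s ∧ (δ.ap x).z = x.z := fun x => by
    refine ⟨?_, ?_, ?_, ?_⟩ <;> simp [hδ] <;> field_simp <;> simp
  clear_value γ δ
  obtain ⟨f', hf', k1, k2⟩ := (i1.comp hf).inv
  obtain ⟨y, hy, ey⟩ := inner_of_Fr (isPGroup_U5 H) hE ((hf.comp i2).comp hf') fun x hx => by
    obtain ⟨x, hx0, rfl⟩ := (i1.comp hf).surj x hx
    refine Z1_le_Fr H ?_
    have m := i2.maps x hx0
    simp only [k1 x hx0]
    simp [-Sd.ap_s, -Sd.ap_t, -Sd.ap_w, -Sd.ap_u, -Sd.ap_c, hx.1, hx.2, (hf.maps _ m).1,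
      (hf.maps _ m).2, e _ m, eγ, eδ, e x hx0]
  have n1' : l⁻¹ - 1 ≠ 0 := sub_ne_zero.2 fun h => hl (by simp [inv_eq_one.1 h])
  have n2' : l / star l - 1 ≠ 0 := sub_ne_zero.2 fun h => hl ((div_eq_one_iff_eq l1).1 h).symm
  have n3' : star l - 1 ≠ 0 := sub_ne_zero.2 fun h => hl (by simp [star_eq_iff_star_eq.1 h |>.symm])
  have q1 : ∀ t w s, φ (l⁻¹ * t, l / star l * w, star l * s) = φ (t, w, s) -
      hB (y.t, y.w, y.s) (star l * s, -(l / star l * w), l⁻¹ * t) := fun t w s => by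
    obtain ⟨x, hx, ex⟩ := exists_co H (t, w, s)
    simp only [Prod.mk.injEq] at ex
    obtain ⟨rfl, rfl, rfl⟩ := ex
    have m := (i1.comp hf).maps x hx
    have e0 := ey _ m
    simp only [k1 x hx] at e0
    have := hφ _ (i2.maps x hx)
    rw [e0, (eγ x).1, (eγ x).2.1, (eγ x).2.2.1] at this
    rw [← this, ← hφ x hx]
    simp [-Sd.ap_s, -Sd.ap_t, -Sd.ap_w, -Sd.ap_u, -Sd.ap_c, -Sd.ap_z, hy.1, hy.2, m.1, m.2, eγ, eδ,
      e x hx, n1, hB, hH]
    field_simp; ring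
  have n4 : star (l⁻¹ - 1) ≠ 0 := star_ne_zero.2 n1'
  have n5 : star (l / star l - 1) ≠ 0 := star_ne_zero.2 n2'
  have n6 : star (star l - 1) ≠ 0 := star_ne_zero.2 n3'
  obtain ⟨y0, hy0, ey0⟩ := exists_co H (y.t * star l⁻¹ / star (l⁻¹ - 1),
    y.w * star (l / star l) / star (l / star l - 1), y.s * star (star l) / star (star l - 1))
  have q0 : ∀ t w s, φ (t, w, s) = -hB (y0.t, y0.w, y0.s) (s, -w, t) := fun t w s => by
    have := q1 (t / (l⁻¹ - 1)) (w / (l / star l - 1)) (s / (star l - 1))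
    rw [sub_eq_add_neg (φ _), ← sub_eq_iff_eq_add', ← map_sub, Prod.mk_sub_mk, Prod.mk_sub_mk, ← sub_one_mul,
      ← sub_one_mul, ← sub_one_mul, mul_div_cancel₀ _ n1', mul_div_cancel₀ _ n2',
      mul_div_cancel₀ _ n3'] at this
    rw [this, ey0]
    generalize l⁻¹ - 1 = a at n1' n4
    generalize l / star l - 1 = b at n2' n5
    generalize star l - 1 = c at n3' n6
    generalize l / star l = d
    generalize star l = d'
    generalize l⁻¹ = d''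
    simp only [hB, hH, star_add, star_mul, star_div₀, star_star, star_neg]
    field_simp
  refine (hf.mor.conj_comp (mem_top y0⁻¹)).congr fun x hx => ?_
  rw [inv_inv, mul_assoc, inv_mul_eq_iff_eq_mul, ← eq_mul_inv_iff_mul_eq]
  have := (hφ x hx).trans (q0 _ _ _)
  rw [sub_eq_iff_eq_add] at this
  ext <;> simp [(hf.maps x hx).1, (hf.maps x hx).2, hy0.1, hy0.2, e x hx, this, n1, hB, hH]
  ring

end Br1

open Br1

variable (H : UField (starRingEnd k) q) {F : FusionSystem (⊤ : Subgroup (U5 k))}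
  (hF : F.IsSaturated p) (hS : Std F)
include H hF hS

theorem q1_main (hE : F.IsEssential p (Q1 k)) :
    (∀ l (hl : l ≠ 0), Sd.tor1 l hl ∈ KF F) ∧ F.Mor (Q1 k) n1 ∧ Bru F (Q1 k) n1 := by
  obtain ⟨h1, hn, hb⟩ := (wh H hF hS).main H (by
    obtain ⟨f, hf, hne⟩ := exists_not_ext (isPGroup_U5 H) hF hE fun g x hx => conj_Q1 g hx
    obtain ⟨g, e⟩ := exists_bar H hf
    refine ⟨g, ⟨f, hf, e⟩, by_contra fun h => hne (ext_of_keep H hF hf e fun w => ?_)⟩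
    exact by_contra fun h' => h ⟨w, h'⟩)
  have hm := n1_mor H hE h1 hn
  refine ⟨h1, hm, fun f hf => ?_⟩
  obtain ⟨g, e⟩ := exists_bar H hf
  rcases hb g ⟨f, hf, e⟩ with h | ⟨a, c, hac, h⟩
  · obtain ⟨g', hg', e'⟩ := ext_of_keep H hF hf e h
    exact ⟨g', hg', Or.inl e'⟩
  · obtain ⟨y, rfl, rfl⟩ := exists_uc hac
    obtain ⟨n', hn', -, l2⟩ := ((iso_conj' y).comp (hm.iso_self fun x _ => n1_mem x)).inv
    obtain ⟨g', hg', e'⟩ := ext_of_keep H hF (hn'.comp hf) (g := (uW y⁻¹.u y⁻¹.c * nW)⁻¹ * g)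
      (fun x hx => (uW y⁻¹.u y⁻¹.c * nW).injective (by
        rw [← LinearEquiv.mul_apply, mul_inv_cancel_left, ← e x hx, ← l2 _ (hf.maps x hx),
          co_conj y (n1_mem _), l2 _ (hf.maps x hx)]
        rfl)) h
    exact ⟨g', hg', Or.inr ⟨y, fun x hx => by rw [← e' x hx, l2 _ (hf.maps x hx)]⟩⟩

end Cfsg.Agent.UF
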