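import Mathlib
import Cfsg.Agent.UF.Card

/-! Small facts on essential subgroups. -/

set_option autoImplicit false
set_option linter.unusedSectionVars false
set_option linter.unusedVariables false

namespace Cfsg.Agent.UF

open Subgroup Cfsg.FusionSystem Cfsg.Agent.Fus Cfsg.Agent.Cl Cfsg.Agent.Oc
open scoped commutatorElement

universe u

variable {k : Type u} [Field k] [StarRing k] [Finite k] {p q : ℕ} [Fact p.Prime] [CharP k p]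

/-- The element of `Z2` with coordinate `t`. -/
def el2 (t : k) : U5 k := ⟨0, 0, 0, 0, t, 0, by simp, by simp⟩

@[simp] theorem el2_s (t : k) : (el2 t).s = 0 := rfl
@[simp] theorem el2_u (t : k) : (el2 t).u = 0 := rfl
@[simp] theorem el2_w (t : k) : (el2 t).w = 0 := rfl
@[simp] theorem el2_c (t : k) : (el2 t).c = 0 := rfl
@[simp] theorem el2_t (t : k) : (el2 t).t = t := rfl
@[simp] theorem el2_z (t : k) : (el2 t).z = 0 := rfl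

theorem el2_mem (t : k) : el2 t ∈ Z2 k := ⟨rfl, rfl, rfl, rfl⟩

theorem cm_symm {G : Type*} [Group G] {x y : G} (h : ⁅x, y⁆ = 1) : ⁅y, x⁆ = 1 := by
  rw [← commutatorElement_inv, h, inv_one]

theorem cm_Z1 {g : U5 k} (hg : g ∈ Z1 k) (x : U5 k) : ⁅g, x⁆ = 1 := by
  obtain ⟨h1, h2, h3, h4, h5⟩ := hg
  simp [U5.eq_one_iff, *]

theorem cm_Z2 {g : U5 k} (hg : g ∈ Z2 k) (x : U5 k) : ⁅g, x⁆ ∈ Z1 k := by
  obtain ⟨h1, h2, h3, h4⟩ := hg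
  simp [*]

theorem cm_Z3 {g : U5 k} (hg : g ∈ Z3 k) (x : U5 k) : ⁅g, x⁆ ∈ Z2 k := by
  obtain ⟨h1, h2⟩ := hg
  simp [*]

theorem cm_U (g x : U5 k) : ⁅g, x⁆ ∈ Z3 k := by simp

theorem cm_Z2_Q2 {g x : U5 k} (hg : g ∈ Z2 k) (hx : x ∈ Q2 k) : ⁅g, x⁆ = 1 := by
  obtain ⟨h1, h2, h3, h4⟩ := hg
  rw [mem_Q2] at hx
  simp [U5.eq_one_iff, *]

theorem cm_V4_Q2 {g x : U5 k} (hg : g ∈ V4 k) (hx : x ∈ Q2 k) : ⁅g, x⁆ = 1 := by
  obtain ⟨h1, h2, h3⟩ := hg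
  rw [mem_Q2] at hx
  simp [U5.eq_one_iff, *]

theorem cm_Q2 {g x : U5 k} (hg : g ∈ Q2 k) (hx : x ∈ Q2 k) : ⁅g, x⁆ ∈ V4 k := by
  rw [mem_Q2] at hx hg
  simp [*]

theorem cm_Q1 {g x : U5 k} (hg : g ∈ Q1 k) (hx : x ∈ Q1 k) : ⁅g, x⁆ ∈ Z1 k := by
  obtain ⟨h1, h2⟩ := hg
  obtain ⟨h3, h4⟩ := hx
  simp [*]

theorem cm_D5_R8 {g x : U5 k} (hg : g ∈ D5 k) (hx : x ∈ R8 k) : ⁅g, x⁆ ∈ Z1 k := by
  obtain ⟨h1, h2, h3⟩ := hg
  rw [mem_R8] at hx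
  simp [*]

theorem cm_R8 (g : U5 k) {x : U5 k} (hx : x ∈ R8 k) : ⁅g, x⁆ ∈ D5 k := by
  rw [mem_R8] at hx
  simp [*]

theorem cm_R8' {g x : U5 k} (hg : g ∈ R8 k) (hx : x ∈ R8 k) : ⁅g, x⁆ ∈ Z2 k := by
  rw [mem_R8] at hx hg
  simp [*]

theorem Z1_le_Z2 : Z1 k ≤ Z2 k := fun _ h => ⟨h.1, h.2.1, h.2.2.1, h.2.2.2.1⟩
theorem Z2_le_D5 : Z2 k ≤ D5 k := fun _ h => ⟨h.1, h.2.1, h.2.2.2⟩
theorem Z2_le_V4 : Z2 k ≤ V4 k := fun _ h => ⟨h.1, h.2.1, h.2.2.1⟩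
theorem D5_le_Z3 : D5 k ≤ Z3 k := fun _ h => ⟨h.1, h.2.1⟩
theorem V4_le_Z3 : V4 k ≤ Z3 k := fun _ h => ⟨h.1, h.2.1⟩
theorem D5_le_Q1 : D5 k ≤ Q1 k := fun _ h => ⟨h.2.1, h.2.2⟩
theorem Z3_le_Q2 : Z3 k ≤ Q2 k := fun _ h => h.1
theorem Z3_le_R8 : Z3 k ≤ R8 k := fun _ h => h.2
theorem Q1_le_R8 : Q1 k ≤ R8 k := fun _ h => h.1

theorem tr_z {x : U5 k} (h : x.w = 0) : star x.z = -x.z := by simp [h]
theorem tr_c {x : U5 k} (h : x.u = 0) : star x.c = -x.c := by simp [h]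

variable (H : UField (starRingEnd k) q) {E : Subgroup (U5 k)}
include H

theorem two_le_q (p : ℕ) [Fact p.Prime] [CharP k p] : 2 ≤ q := by
  obtain ⟨n, h1, rfl⟩ := exists_q (p := p) H
  exact (Fact.out : p.Prime).two_le.trans (Nat.le_self_pow (by omega) p)

theorem Es.Z1_le (h : Es p E) : Z1 k ≤ E := fun g hg =>
  h.cent (isPGroup_U5 H) fun x _ => cm_Z1 hg x

theorem exists_cm {x z : U5 k} (hs : x.s ≠ 0) (hz : z ∈ Z1 k) : ∃ t, ⁅x, el2 t⁆ = z := by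
  obtain ⟨t, ht⟩ := exists_im H hs (tr_z hz.2.2.1)
  obtain ⟨h1, h2, h3, h4, h5⟩ := hz
  exact ⟨t, by ext <;> simp [*]⟩

theorem Z1_Fr (hZ : Z2 k ≤ E) {x : U5 k} (hx : x ∈ E) (hs : x.s ≠ 0) : Z1 k ≤ Fr p E := fun z hz => by
  obtain ⟨t, rfl⟩ := exists_cm H hs hz
  exact cm_Fr hx (hZ (el2_mem t))

theorem relIndex_s : (Q2 k).relIndex E ≤ q ^ 2 := by
  rw [← card_k H]
  exact relIndex_le_card _ _ (fun e => e.1.s) fun x y h => by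
    simp only [mem_Q2, U5.mul_s, U5.inv_s]; rw [h]; ring

theorem relIndex_line {s : k} (hs : s ≠ 0) (h : ∀ e ∈ E, star s * e.s = star e.s * s) :
    (Q2 k).relIndex E ≤ q := by
  rw [← card_line H hs]
  exact relIndex_le_card _ _ (fun e => ⟨e.1.s, h _ e.2⟩) fun x y h => by
    have := congrArg Subtype.val h
    simp only [mem_Q2, U5.mul_s, U5.inv_s] at this ⊢; rw [this]; ring

end Cfsg.Agent.UF
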