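import Mathlib
import Cfsg.Agent.UF.EH

/-! Essential subgroups: inside `Q2`, inside `Q1`, and the second centre. -/

set_option autoImplicit false
set_option linter.unusedSectionVars false
set_option linter.unusedVariables false

namespace Cfsg.Agent.UF

open Subgroup Cfsg.FusionSystem Cfsg.Agent.Fus Cfsg.Agent.Cl Cfsg.Agent.Oc
open scoped commutatorElement

universe u

variable {k : Type u} [Field k] [StarRing k] [Finite k] {p q : ℕ} [Fact p.Prime] [CharP k p]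

variable (H : UField (starRingEnd k) q) {E : Subgroup (U5 k)} (h : Es p E)
include H h

theorem es_le_Q2 (hE : E ≤ Q2 k) : E = Q2 k := by
  have hΩ : IsPGroup p (U5 k) := isPGroup_U5 H
  have hV : V4 k ≤ E := fun g hg => h.cent hΩ fun x hx => cm_V4_Q2 hg (hE hx)
  have hZ := (Iv.top (⊤ : Subgroup (MulAut E))).cent (Iv.top _)
  refine le_antisymm hE fun g hg => ?_
  by_cases h1 : ∀ y ∈ E, (∀ e ∈ E, ⁅y, e⁆ = 1) → y ∈ V4 k
  · refine h.ch1 hΩ hZ (fun x hx => ⟨hV (cm_Q2 hg (hE hx)), fun e he =>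
      cm_V4_Q2 (cm_Q2 hg (hE hx)) (hE he)⟩) fun x hx => ?_
    rw [cm_symm (cm_V4_Q2 (h1 x hx.1 hx.2) hg)]
    exact one_mem _
  exfalso
  push Not at h1
  obtain ⟨y, hy, hc, hyV⟩ := h1
  have ys : y.s = 0 := hE hy
  have h2 : ∀ e ∈ E, ∃ l, star l = l ∧ e.u = l * y.u ∧ e.w = l * y.w := fun e he => by
    have es : e.s = 0 := hE he
    have h3 := hc e he
    simp [U5.eq_one_iff, ys, es, sub_eq_zero] at h3
    obtain ⟨h3, h4, h5⟩ := h3
    by_cases hu : y.u = 0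
    · have hw : y.w ≠ 0 := fun hw => hyV ⟨ys, hu, hw⟩
      obtain ⟨l, hl, e1⟩ := (mem_line_iff hw).1 h5
      refine ⟨l, hl, ?_, e1⟩
      simpa [hu, hw] using h4
    · obtain ⟨l, hl, e1⟩ := (mem_line_iff hu).1 h3
      refine ⟨l, hl, e1, mul_left_cancel₀ (star_ne_zero.2 hu) ?_⟩
      rw [h4, e1]; simp [hl]; ring
  obtain ⟨θ, hθ⟩ := exists_star_ne H
  obtain ⟨u0, w0, h3, h4⟩ : ∃ u0 w0 : k, (∀ l, star l = l → u0 ≠ l * y.u) ∧
      ∀ m l, star m = m → star l = l → 0 = l * y.u → m * w0 = l * y.w → m = 0 := by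
    by_cases hu : y.u = 0
    · have hw : y.w ≠ 0 := fun hw => hyV ⟨ys, hu, hw⟩
      refine ⟨1, θ * y.w, fun l _ => by simp [hu], fun m l hm hl _ e => ?_⟩
      have e1 : m * θ = l := mul_right_cancel₀ hw (by linear_combination e)
      have e2 := congrArg star e1
      simp [hm, hl] at e2
      exact mul_right_cancel₀ (sub_ne_zero.2 hθ) (by linear_combination e2 - e1)
    · refine ⟨θ * y.u, 1, fun l hl e => hθ ?_, fun m l _ _ e e' => ?_⟩
      · rw [mul_right_cancel₀ hu e, hl]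
      · rw [(mul_eq_zero.1 e.symm).resolve_right hu] at e'
        simpa using e'
  choose b hb using fun m : k => exists_el H 0 0 (m * w0) 0
  obtain ⟨g0, g1, g2, -⟩ := exists_el H 0 u0 0 0
  have hi : (V4 k).relIndex E ≤ E.relIndex (Z3 k) := by
    choose f hf using h2
    refine (relIndex_le_card _ _ (T := {l : k // star l = l}) (fun e => ⟨f e e.2, (hf e e.2).1⟩)
      fun x x' e => ?_).trans (card_le_relIndex E _ (fun m : {l : k // star l = l} => b m)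
        (fun m => ⟨(hb m).1, (hb m).2.1⟩) fun m m' e => ?_)
    · have e1 : f x x.2 = f x' x'.2 := congrArg Subtype.val e
      have xs : x.1.s = 0 := hE x.2
      have xs' : x'.1.s = 0 := hE x'.2
      simp [xs, xs', (hf x x.2).2, (hf x' x'.2).2, e1]
    · have := h4 (m' - m) _ (by simp [m.2, m'.2]) (hf _ e).1 (by rw [← (hf _ e).2.1]; simp [hb])
        (by rw [← (hf _ e).2.2]; simp [hb]; ring)
      exact Subtype.ext (sub_eq_zero.1 this).symm
  obtain ⟨a, ha, x, hx, e⟩ := h.ff hΩ (B := Z3 k) (Y := V4 k)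
    (fun b hb x hx => hV (cm_Q2 hb.1 (hE hx))) (fun hle => by
      obtain ⟨l, hl, e1, e2⟩ := h2 _ (hle (show b 1 ∈ Z3 k from ⟨(hb 1).1, (hb 1).2.1⟩))
      exact one_ne_zero (h4 1 l (by simp) hl ((hb 1).2.1.symm.trans e1) ((hb 1).2.2.1.symm.trans e2)))
    (fun a ha b hb => hV (cm_Q2 ha.1 hb.1)) (fun b hb => hV (pow_mem_V4 hb.1))
    (fun b hb y hy _ => by rw [cm_symm (cm_V4_Q2 hy hb.1)]; exact one_mem _) hi (s := g0)
    fun x hx => hV (cm_Q2 g1 (hE hx))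
  obtain ⟨l, hl, e1, -⟩ := h2 x hx
  exact h3 l hl (by rw [← g2, e, ← e1]; simp [ha.2])

theorem es_le_Q1 (hE : E ≤ Q1 k) {x y : U5 k} (hx : x ∈ E) (hy : y ∈ E) (hn : ⁅x, y⁆ ≠ 1) :
    E = Q1 k := by
  have hΩ : IsPGroup p (U5 k) := isPGroup_U5 H
  have hZ := (Iv.top (⊤ : Subgroup (MulAut E))).cent (Iv.top _)
  have hF : Z1 k ≤ Fr p E := fun z hz => by
    have h0 := cm_Q1 (hE hx) (hE hy)
    have h1 : ⁅x, y⁆.z ≠ 0 := fun e => hn ((U5.eq_one_iff _).2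
      ⟨h0.1, h0.2.1, h0.2.2.1, h0.2.2.2.1, h0.2.2.2.2, e⟩)
    obtain ⟨l, hl, hl'⟩ : ∃ l : k, star l = l ∧ l * ⁅x, y⁆.z = z.z :=
      ⟨z.z / ⁅x, y⁆.z, by rw [star_div₀, tr_z hz.2.2.1, tr_z h0.2.2.1, neg_div_neg_eq],
        div_mul_cancel₀ _ h1⟩
    obtain ⟨g, g1, g2, g3, g4, g5, -⟩ := exists_el H (l * x.s) 0 (l * x.w) (l * x.t)
    have gQ : g ∈ Q1 k := ⟨g2, g5 rfl⟩
    have h2 : ∀ e ∈ E, ⁅g, e⁆.z = l * ⁅x, e⁆.z := fun e he => by
      simp [g1, g2, g3, g4, g5, hl, (hE he).1, (hE he).2, (hE hx).1, (hE hx).2]; ring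
    have hg : g ∈ E := h.ch1 hΩ hZ (fun e he => ⟨h.Z1_le H (cm_Q1 gQ (hE he)), fun e' _ =>
      cm_Z1 (cm_Q1 gQ (hE he)) e'⟩) fun e he => by
        have h3 := cm_Q1 gQ (hE he.1)
        have : ⁅g, e⁆ = 1 := (U5.eq_one_iff _).2 ⟨h3.1, h3.2.1, h3.2.2.1, h3.2.2.2.1, h3.2.2.2.2, by
          rw [h2 e he.1, cm_symm (he.2 x hx)]; simp⟩
        rw [this]; exact one_mem _
    have h3 := cm_Q1 gQ (hE hy)
    have : z = ⁅g, y⁆ := U5.ext (hz.1.trans h3.1.symm) (hz.2.1.trans h3.2.1.symm)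
      (hz.2.2.1.trans h3.2.2.1.symm) (hz.2.2.2.1.trans h3.2.2.2.1.symm)
      (hz.2.2.2.2.trans h3.2.2.2.2.symm) (by rw [h2 y hy, hl'])
    exact this ▸ cm_Fr hg hy
  exact le_antisymm hE fun g hg => h.ch0 hΩ fun e he => hF (cm_Q1 hg (hE he))

theorem es_Z2_le (hE : ¬ E ≤ Q2 k) : Z2 k ≤ E := by
  have hΩ : IsPGroup p (U5 k) := isPGroup_U5 H
  have hZ := (Iv.top (⊤ : Subgroup (MulAut E))).cent (Iv.top _)
  have h1 := h.Z1_le H
  by_contra hne
  obtain ⟨x, hx, hc, hs⟩ : ∃ x ∈ E, (∀ e ∈ E, ⁅x, e⁆ = 1) ∧ x.s ≠ 0 := by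
    by_contra h2
    push Not at h2
    refine hne fun g hg => h.ch1 hΩ hZ (fun e he => ⟨h1 (cm_Z2 hg e), fun e' _ =>
      cm_Z1 (cm_Z2 hg e) e'⟩) fun e he => ?_
    rw [cm_Z2_Q2 hg (h2 e he.1 he.2)]
    exact one_mem _
  have hF : ¬Z1 k ≤ Fr p E := fun hF => hne fun g hg => h.ch0 hΩ fun e _ => hF (cm_Z2 hg e)
  have cw : ∀ e ∈ E, x.s * e.u = e.s * x.u := fun e he => by
    simpa [sub_eq_zero] using congrArg U5.w (hc e he)
  have cc : ∀ e ∈ E, star x.u * e.u = star e.u * x.u := fun e he => by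
    simpa [sub_eq_zero] using congrArg U5.c (hc e he)
  have ct : ∀ e ∈ E, star x.u * e.w - star e.u * x.w - x.c * e.s + e.c * x.s = 0 := fun e he => by
    simpa [cw e he] using congrArg U5.t (hc e he)
  have cu : x.u = 0 → ∀ e ∈ E, e.u = 0 := fun hu e he => by simpa [hu, hs] using cw e he
  have c2 : ∀ y ∈ E, ∀ t t', (el2 t)⁻¹ * el2 t' ∈ E → ⁅y, (el2 t)⁻¹ * el2 t'⁆ = 1 →
      star y.s * (t' - t) = star (t' - t) * y.s := fun y _ t t' _ e => by
    have := congrArg U5.z e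
    simp at this ⊢
    linear_combination this
  have cl : x.u ≠ 0 → ∀ e ∈ E, ∃ l, star l = l ∧ e.u = l * x.u ∧ e.s = l * x.s := fun hu e he => by
    obtain ⟨l, hl, e1⟩ := (mem_line_iff hu).1 (cc e he)
    exact ⟨l, hl, e1, mul_right_cancel₀ hu (by rw [← cw e he, e1]; ring)⟩
  have hi : (Q2 k).relIndex E ≤ E.relIndex (Z2 k) := by
    by_cases hl : ∀ e ∈ E, star x.s * e.s = star e.s * x.s
    · obtain ⟨θ, hθ⟩ := exists_star_ne H
      refine (relIndex_line H hs hl).trans ?_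
      rw [← card_fix H]
      refine card_le_relIndex E _ (fun l : {l : k // star l = l} => el2 (l * θ * x.s))
        (fun _ => el2_mem _) fun l l' e => Subtype.ext ?_
      have := c2 x hx _ _ e (hc _ e)
      simp [l.2, l'.2] at this
      refine mul_right_cancel₀ (mul_ne_zero (mul_ne_zero hs (star_ne_zero.2 hs))
        (sub_ne_zero.2 hθ)) ?_
      linear_combination this
    · have hu : x.u = 0 := by
        by_contra hu
        refine hl fun e he => ?_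
        obtain ⟨l, hl, -, e1⟩ := cl hu e he
        rw [e1]; simp [hl]; ring
      have hcx : x.c = 0 := by
        by_contra hcx
        refine hl fun e he => mul_left_cancel₀ hcx ?_
        have a1 := ct e he
        have a2 := congrArg star a1
        simp [hu, cu hu e he] at a1 a2
        linear_combination -x.s * a2 - star x.s * a1
      have hQ : E ≤ Q1 k := fun e he => ⟨cu hu e he, by simpa [hu, hcx, cu hu e he, hs] using ct e he⟩
      push Not at hl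
      obtain ⟨x', hx', hl⟩ := hl
      refine (relIndex_s H).trans ?_
      rw [← card_k H]
      refine card_le_relIndex E _ el2 el2_mem fun t t' e => ?_
      have a2 : ⁅x', (el2 t)⁻¹ * el2 t'⁆ = 1 := by
        by_contra hn
        exact hne ((Z2_le_D5.trans D5_le_Q1).trans (es_le_Q1 H h hQ hx' e hn).ge)
      exact (sub_eq_zero.1 (eq_zero_of_lines hl (c2 x hx _ _ e (hc _ e)) (c2 x' hx' _ _ e a2))).symm
  have hff : ∀ d ∈ D5 k, (∀ e ∈ E, ⁅d, e⁆ ∈ E) → ∃ e ∈ E, e ∈ D5 k ∧ e.w = d.w := fun d hd hn => by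
    obtain ⟨a, ha, e, he, rfl⟩ := h.ff hΩ (B := Z2 k) (Y := Q2 k) (fun b hb e _ => h1 (cm_Z2 hb e))
      hne (fun a ha b _ => h1 (cm_Z2 ha b)) (fun b hb => h1 (pow_mem_Z1 (D5_le_Q1 (Z2_le_D5 hb))))
      (fun b hb y hy _ => by rw [cm_Z2_Q2 hb hy]; exact one_mem _) hi hn
    refine ⟨e, he, (mul_mem_cancel_left (Z2_le_D5 ha)).1 hd, ?_⟩
    simp [ha.1, ha.2.2.1]
  by_cases hu : x.u = 0
  · refine hF fun z hz => ?_
    obtain ⟨y, hy⟩ := exists_im H one_ne_zero (tr_z hz.2.2.1)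
    obtain ⟨d, d1, d2, d3, -, d5, -⟩ := exists_el H 0 0 1 0
    obtain ⟨d', d1', d2', d3', -, d5', -⟩ := exists_el H 0 0 y 0
    obtain ⟨e, he, ⟨e1, e2, e3⟩, e4⟩ := hff d ⟨d1, d2, d5 rfl⟩ fun e he =>
      h1 (cm_D5_R8 ⟨d1, d2, d5 rfl⟩ (cu hu e he))
    obtain ⟨e', he', ⟨e1', e2', e3'⟩, e4'⟩ := hff d' ⟨d1', d2', d5' rfl⟩ fun e he =>
      h1 (cm_D5_R8 ⟨d1', d2', d5' rfl⟩ (cu hu e he))
    have : z = ⁅e, e'⁆ := by
      obtain ⟨z1, z2, z3, z4, z5⟩ := hz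
      ext <;> simp [*]
      simpa using hy.symm
    exact this ▸ cm_Fr he he'
  · have hu' : star x.u ≠ 0 := star_ne_zero.2 hu
    obtain ⟨d, d1, d2, d3, -, d5, -⟩ := exists_el H 0 0 (x.s / star x.u) 0
    obtain ⟨e, he, ⟨e1, e2, e3⟩, e4⟩ := hff d ⟨d1, d2, d5 rfl⟩ fun e he => by
      obtain ⟨l, hl, a1, a2⟩ := cl hu e he
      have a3 : ⁅d, e⁆ ∈ Z2 k := cm_Z3 ⟨d1, d2⟩ e
      have a4 : ⁅d, e⁆.t = -l * x.s := by
        simp [d1, d2, d3, d5, a1, hl]; field_simp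
      refine h.cent hΩ fun e' he' => ?_
      obtain ⟨l', hl', b1, b2⟩ := cl hu e' he'
      generalize ⁅d, e⁆ = y at a3 a4
      obtain ⟨y1, y2, y3, y4⟩ := a3
      simp [U5.eq_one_iff, y1, y2, y3, y4, a4, b2, hl, hl']
      ring
    have := ct e he
    rw [e4, d3] at this
    simp [e1, e2, e3, hu, hs] at this

end Cfsg.Agent.UF
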