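import Mathlib
import Cfsg.Agent.UF.EH

/-! Essential subgroups: inside `R8`, and the third centre. -/

set_option autoImplicit false
set_option linter.unusedSectionVars false
set_option linter.unusedVariables false

namespace Cfsg.Agent.UF

open Subgroup Cfsg.FusionSystem Cfsg.Agent.Fus Cfsg.Agent.Cl Cfsg.Agent.Oc
open scoped commutatorElement

universe u

variable {k : Type u} [Field k] [StarRing k] [Finite k] {p q : ℕ} [Fact p.Prime] [CharP k p]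

theorem cm_Z2' (g : U5 k) {x : U5 k} (hx : x ∈ Z2 k) : ⁅g, x⁆ ∈ Z1 k := by
  rw [← commutatorElement_inv]; exact inv_mem (cm_Z2 hx g)

theorem cm_Z3' (g : U5 k) {x : U5 k} (hx : x ∈ Z3 k) : ⁅g, x⁆ ∈ Z2 k := by
  rw [← commutatorElement_inv]; exact inv_mem (cm_Z3 hx g)

/-- The elements of `D5` with real `w`. -/
def B4 (k : Type u) [Field k] [StarRing k] : Subgroup (U5 k) where
  carrier := {x | x ∈ D5 k ∧ star x.w = x.w}
  one_mem' := ⟨one_mem _, by simp⟩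
  mul_mem' := fun {x y} hx hy => ⟨mul_mem hx.1 hy.1, by simp [hx.1.1, hx.2, hy.2]⟩
  inv_mem' := fun {x} hx => ⟨inv_mem hx.1, by simp [hx.1.1, hx.2]⟩

variable (H : UField (starRingEnd k) q) {E : Subgroup (U5 k)} (h : Es p E)
include H h

/-- A small essential subgroup with `Z1 ≤ Φ(E)` supplements `Q1`. -/
theorem es_small (hF : Z1 k ≤ Fr p E) (hB : ∀ b ∈ Q1 k, ∀ x ∈ E, ⁅b, x⁆ ∈ E) (hne : ¬E ≤ Q1 k)
    (hc : Nat.card E ≤ q ^ 7) {g : U5 k} (hg : ∀ x ∈ E, ⁅g, x⁆ ∈ E) : ∃ e ∈ E, e.u = g.u := by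
  rw [← card_Q1 H] at hc
  obtain ⟨a, ha, e, he, rfl⟩ := h.ff (isPGroup_U5 H) (B := Q1 k) (Y := Q1 k) hB
    (fun hle => hne (eq_of_le_of_card_ge hle hc).ge) (fun a ha b hb => h.Z1_le H (cm_Q1 ha hb))
    (fun b hb => h.Z1_le H (pow_mem_Z1 hb)) (fun b hb y hy _ => hF (cm_Q1 hb hy))
    (relIndex_le_of_card_le hc) hg
  exact ⟨e, he, by simp [ha.1]⟩

theorem es_le_R8 (hZ : Z2 k ≤ E) (h2 : ¬ E ≤ Q2 k) (hR : E ≤ R8 k) : E = Q1 k := by
  have hΩ : IsPGroup p (U5 k) := isPGroup_U5 H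
  obtain ⟨x, hx, hs⟩ := SetLike.not_le_iff_exists.1 h2
  have hF : Z1 k ≤ Fr p E := Z1_Fr H hZ hx hs
  by_cases hQ : E ≤ Q1 k
  · exact le_antisymm hQ fun g hg => h.ch0 hΩ fun e he => hF (cm_Q1 hg (hQ he))
  exfalso
  have hD : D5 k ≤ E := fun g hg => h.ch0 hΩ fun e he => hF (cm_D5_R8 hg (hR he))
  obtain ⟨g, -, gu, -⟩ := exists_el H 0 1 0 0
  have hg : g ∉ E := fun hg => one_ne_zero (gu.symm.trans (hR hg))
  by_cases hc : Nat.card E ≤ q ^ 7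
  · obtain ⟨e, he, e1⟩ := es_small H h hF (fun b _ e he => hD (cm_R8 b (hR he))) hQ hc (g := g)
      fun e he => hD (cm_R8 g (hR he))
    exact one_ne_zero (gu.symm.trans (e1.symm.trans (hR he)))
  rw [card_eq_relIndex_mul (Q2 k)] at hc
  obtain ⟨v, hv, vs, vc⟩ : ∃ v ∈ E, v.s = 0 ∧ v.c ≠ 0 := by
    by_contra h3
    push Not at h3
    refine hc ((Nat.mul_le_mul (relIndex_s H) (card_le_of_le (H := E ⊓ Q2 k) (K := D5 k) fun v hv =>
      ⟨hv.2, hR hv.1, h3 v hv.1 hv.2⟩)).trans ?_)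
    rw [card_D5 H]; exact le_of_eq (by ring)
  obtain ⟨x', hx', hl⟩ : ∃ x' ∈ E, star x.s * x'.s ≠ star x'.s * x.s := by
    by_contra h3
    push Not at h3
    refine hc ((Nat.mul_le_mul (relIndex_line H hs h3) (card_le_of_le (H := E ⊓ Q2 k) (K := Z3 k) fun v hv =>
      ⟨hv.2, hR hv.1⟩)).trans ?_)
    rw [card_Z3 H]; exact le_of_eq (by ring)
  have hw : ∀ c ∈ Z3 k, (∀ e ∈ D5 k, ⁅c, e⁆ = 1) → c.w = 0 := fun c hc h3 =>
    eq_zero_of_im H fun y => by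
      obtain ⟨d, d1, d2, d3, -, d5, -⟩ := exists_el H 0 0 y 0
      simpa [hc.1, hc.2, d1, d2, d3, sub_eq_zero] using congrArg U5.z (h3 d ⟨d1, d2, d5 rfl⟩)
  have xu : x.u = 0 := hR hx
  have hs' : x.s ≠ 0 := hs
  have i1 : Iv (⊤ : Subgroup (MulAut E)) (Z1 k : Set (U5 k)) :=
    ((Iv.top _).cent (Iv.top _)).congr fun c => ⟨fun hc => ⟨h.Z1_le H hc, fun e _ => cm_Z1 hc e⟩,
      fun ⟨hc, h3⟩ => by
        have cu : c.u = 0 := hR hc
        have cs : c.s = 0 := eq_zero_of_im H fun y => by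
          simpa [sub_eq_zero] using congrArg U5.z (h3 _ (hZ (el2_mem y)))
        have cw := hw c ⟨cs, cu⟩ fun e he => h3 e (hD he)
        have cc : c.c = 0 := by simpa [cs, cu, xu, hs'] using congrArg U5.t (h3 x hx)
        have a : ∀ y ∈ E, star y.s * c.t = star c.t * y.s := fun y hy => by
          have := congrArg U5.z (h3 y hy)
          simp [cs, cu, cw, cc] at this
          linear_combination -this
        exact ⟨cs, cu, cw, cc, eq_zero_of_lines hl (a x hx) (a x' hx')⟩⟩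
  have i2 : Iv (⊤ : Subgroup (MulAut E)) (D5 k : Set (U5 k)) :=
    ((Iv.top _).cmm (Iv.top _) i1).congr fun c => ⟨fun hc => ⟨hD hc, fun e he => cm_D5_R8 hc (hR he)⟩,
      fun ⟨hc, h3⟩ => by
        have cu : c.u = 0 := hR hc
        have vu : v.u = 0 := hR hv
        have cs : c.s = 0 := by simpa [cu, vu, vs, vc] using (h3 v hv).2.2.2.2
        exact ⟨cs, cu, by simpa [cs, cu, xu, hs'] using (h3 x hx).2.2.2.2⟩⟩
  have i3 : Iv (⊤ : Subgroup (MulAut E)) (Z2 k : Set (U5 k)) :=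
    (i2.cent i2).congr fun c => ⟨fun hc => ⟨Z2_le_D5 hc, fun e he => cm_Z2_Q2 hc he.1⟩,
      fun ⟨hc, h3⟩ => ⟨hc.1, hc.2.1, hw c (D5_le_Z3 hc) h3, hc.2.2⟩⟩
  exact hg (h.ch2 hΩ i2 i3 (fun e he => cm_R8 g (hR he)) (fun e he => cm_Z3' g (D5_le_Z3 he))
    fun e he => hF (cm_Z2' g he))

theorem es_Z3_le (hZ : Z2 k ≤ E) (h2 : ¬ E ≤ Q2 k) : Z3 k ≤ E ∨ E ≤ R8 k := by
  have hΩ : IsPGroup p (U5 k) := isPGroup_U5 H
  obtain ⟨x, hx, hs⟩ := SetLike.not_le_iff_exists.1 h2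
  have hF : Z1 k ≤ Fr p E := Z1_Fr H hZ hx hs
  have h1 := h.Z1_le H
  refine or_iff_not_imp_right.2 fun hR => ?_
  obtain ⟨e0, he0, hu0⟩ := SetLike.not_le_iff_exists.1 hR
  have iX : Iv (⊤ : Subgroup (MulAut E)) {y | ∃ α : MulAut E, ∃ z ∈ Z2 k, y = totA α z} :=
    ⟨by rintro _ ⟨α, z, hz, rfl⟩; exact totA_mem α (hZ hz), by
      rintro β - _ ⟨α, z, hz, rfl⟩
      exact ⟨β * α, z, hz, (totA_mul β α (hZ hz)).symm⟩⟩
  by_cases hX : ∀ α : MulAut E, ∀ z ∈ Z2 k, totA α z ∈ R8 k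
  · have hD : D5 k ≤ E := fun d hd => h.ch1 hΩ iX (fun e he => ⟨1, _, cm_Z3 (D5_le_Z3 hd) e,
      (totA_one (hZ (cm_Z3 (D5_le_Z3 hd) e))).symm⟩) (by
        rintro _ ⟨α, z, hz, rfl⟩
        exact hF (cm_D5_R8 hd (hX α z hz)))
    have hF2 : Z2 k ≤ Fr p E := fun y hy => by
      have hu : star e0.u ≠ 0 := star_ne_zero.2 hu0
      obtain ⟨d, d1, d2, d3, -, d5, -⟩ := exists_el H 0 0 (y.t / star e0.u) 0
      have a1 := cm_Z3' e0 (x := d) ⟨d1, d2⟩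
      have a2 : ⁅e0, d⁆.t = y.t := by simp [d1, d2, d3, d5]; field_simp
      have a3 := cm_Fr (p := p) he0 (hD ⟨d1, d2, d5 rfl⟩)
      generalize ⁅e0, d⁆ = c at a1 a2 a3
      refine (mul_mem_cancel_right (inv_mem a3)).1 (hF ?_)
      obtain ⟨c1, c2, c3, c4⟩ := a1
      obtain ⟨y1, y2, y3, y4⟩ := hy
      simp [*]
    exact fun g hg => h.ch0 hΩ fun e _ => hF2 (cm_Z3 hg e)
  exfalso
  push Not at hX
  obtain ⟨α, z, hz, yu⟩ := hX
  have hy := totA_mem α (hZ hz)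
  have a1 : ∀ e ∈ E, ∃ z' ∈ Z1 k, ⁅totA α z, e⁆ = totA α z' := fun e he =>
    ⟨_, cm_Z2 hz (totA α⁻¹ e), by
      rw [Iv.wd_cm.tot α (hZ hz) (totA_mem _ he), totA_totA_inv α he]⟩
  have a2 : ∀ z' ∈ Z1 k, ∀ e ∈ E, ⁅totA α z', e⁆ = 1 := fun z' hz' e he => by
    rw [← totA_totA_inv α he, ← Iv.wd_cm.tot α (h1 hz') (totA_mem _ he)]
    exact (totA_eq_one_iff α (cm_mem (h1 hz') (totA_mem _ he))).2 (cm_Z1 hz' _)
  generalize totA α z = y at yu hy a1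
  have yu' : y.u ≠ 0 := yu
  have hs' : x.s ≠ 0 := hs
  by_cases ys : y.s = 0
  · obtain ⟨z', hz', e⟩ := a1 x hx
    have a3 := congrArg U5.t (a2 z' hz' y hy)
    rw [← e, U5.cm_t] at a3
    simp [ys, yu', hs'] at a3
  have a3 : ∀ z' ∈ Z1 k, totA α z' ∈ Z1 k := by
    have b1 : ∀ z' : Z1 k, totA α⁻¹ z' ∈ Z1 k := fun z' => by
      obtain ⟨t, ht⟩ := exists_cm H ys z'.2
      obtain ⟨z'', hz'', e⟩ := a1 _ (hZ (el2_mem t))
      rw [← ht, e, totA_inv_totA α (h1 hz'')]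
      exact hz''
    have b2 : Function.Injective fun z' : Z1 k => (⟨_, b1 z'⟩ : Z1 k) := fun a b e =>
      Subtype.ext (totA_inj α⁻¹ (h1 a.2) (h1 b.2) (congrArg Subtype.val e))
    intro z' hz'
    obtain ⟨a, e⟩ := Finite.injective_iff_surjective.1 b2 ⟨z', hz'⟩
    rw [← show totA α⁻¹ a = z' from congrArg Subtype.val e, totA_totA_inv α (h1 a.2)]
    exact a.2
  have a4 : ∀ e ∈ E, ⁅y, e⁆ ∈ Z1 k := fun e he => by
    obtain ⟨z', hz', e'⟩ := a1 e he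
    exact e' ▸ a3 z' hz'
  have a5 : ∀ e ∈ E, e ∈ D5 k → e.w = 0 := fun e he hd => by
    simpa [hd.1, hd.2.1, hd.2.2, yu'] using (a4 e he).2.2.2.2
  choose b b1 b2 b3 b4 b5 b6 using fun m : k => exists_el H 0 0 m 0
  have bD : ∀ m, b m ∈ D5 k := fun m => ⟨b1 m, b2 m, b5 m rfl⟩
  have hi : (R8 k).relIndex E ≤ E.relIndex (B4 k) := by
    refine (relIndex_le_card _ _ (T := {x : k // star y.u * x = star x * y.u}) (fun e => ⟨e.1.u, by
      simpa [sub_eq_zero] using (a4 e e.2).2.2.2.1⟩) fun x x' e => ?_).trans ?_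
    · have := congrArg Subtype.val e
      simp only [mem_R8, U5.mul_u, U5.inv_u] at this ⊢; rw [this]; ring
    · rw [card_line H yu', ← card_fix H]
      refine card_le_relIndex E _ (fun l : {l : k // star l = l} => b l)
        (fun l => ⟨bD l, by rw [b3]; exact l.2⟩) fun l l' e => Subtype.ext ?_
      have := a5 _ e (mul_mem (inv_mem (bD _)) (bD _))
      simp [b1, b3] at this
      linear_combination -this
  obtain ⟨θ, hθ⟩ := exists_star_ne H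
  obtain ⟨a, ha, e, he, e1⟩ := h.ff hΩ (B := B4 k) (Y := R8 k)
    (fun b hb e _ => hZ (cm_Z3 (D5_le_Z3 hb.1) e))
    (fun hle => one_ne_zero ((b3 1).symm.trans (a5 _ (hle ⟨bD 1, by simp [b3]⟩) (bD 1))))
    (fun a ha b _ => hZ (cm_Z3 (D5_le_Z3 ha.1) b)) (fun b hb => h1 (pow_mem_Z1 (D5_le_Q1 hb.1)))
    (fun b hb y hy _ => hF (cm_D5_R8 hb.1 hy)) hi (s := b θ) fun e _ => hZ (cm_Z3 (D5_le_Z3 (bD θ)) e)
  have a6 := a5 e he ((mul_mem_cancel_left ha.1).1 (e1 ▸ bD θ))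
  have a7 : θ = a.w := by rw [← b3 θ, e1]; simp [a6, ha.1.1]
  exact hθ (a7 ▸ ha.2)

end Cfsg.Agent.UF
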