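import Mathlib
import Cfsg.Agent.UF.EB

/-! Essential subgroups containing the third centre. -/

set_option autoImplicit false
set_option linter.unusedSectionVars false
set_option linter.unusedVariables false

namespace Cfsg.Agent.UF

open Subgroup Cfsg.FusionSystem Cfsg.Agent.Fus Cfsg.Agent.Cl Cfsg.Agent.Oc
open scoped commutatorElement

universe u

variable {k : Type u} [Field k] [StarRing k] [Finite k] {p q : ℕ} [Fact p.Prime] [CharP k p]

variable (H : UField (starRingEnd k) q) {E : Subgroup (U5 k)} (h : Es p E)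
include H

theorem s_zero {c : U5 k} (h : ∀ e ∈ Z2 k, ⁅c, e⁆ = 1) : c.s = 0 :=
  eq_zero_of_im H fun y => by simpa [sub_eq_zero] using congrArg U5.z (h _ (el2_mem y))

theorem uw_zero {c : U5 k} (cs : c.s = 0) (h : ∀ e ∈ D5 k, ⁅c, e⁆ = 1) : c ∈ V4 k := by
  obtain ⟨d, d1, d2, d3, -, d5, -⟩ := exists_el H 0 0 1 0
  have cu : c.u = 0 := by simpa [cs, d1, d2, d3, d5] using congrArg U5.t (h d ⟨d1, d2, d5 rfl⟩)
  refine ⟨cs, cu, eq_zero_of_im H fun y => ?_⟩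
  obtain ⟨d, d1, d2, d3, -, d5, -⟩ := exists_el H 0 0 y 0
  simpa [cs, cu, d1, d2, d3, sub_eq_zero] using congrArg U5.z (h d ⟨d1, d2, d5 rfl⟩)

include h

theorem es_not_iv (h3 : Z3 k ≤ E) {x : U5 k} (hx : x ∈ E) (hs : x.s ≠ 0)
    (i0 : Iv (⊤ : Subgroup (MulAut E)) {e | e ∈ E ∧ e ∈ Q2 k}) : False := by
  have hΩ : IsPGroup p (U5 k) := isPGroup_U5 H
  have hZ : Z2 k ≤ E := (Z2_le_V4.trans V4_le_Z3).trans h3
  have hF : Z1 k ≤ Fr p E := Z1_Fr H hZ hx hs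
  have i1 : Iv (⊤ : Subgroup (MulAut E)) (V4 k : Set (U5 k)) :=
    (i0.cent i0).congr fun c => ⟨fun hc => ⟨⟨h3 (V4_le_Z3 hc), hc.1⟩, fun e he => cm_V4_Q2 hc he.2⟩,
      fun ⟨hc, h4⟩ => uw_zero H hc.2 fun e he => h4 e ⟨h3 (D5_le_Z3 he), he.1⟩⟩
  have hQ : Q2 k ≤ E := fun g hg => h.ch2 hΩ i0 i1 (fun e _ => ⟨h3 (cm_U g e), (cm_U g e).1⟩)
    (fun e he => cm_Q2 hg he.2) fun e he => by rw [cm_symm (cm_V4_Q2 he hg)]; exact one_mem _
  obtain ⟨a, as, au, -⟩ := exists_el H 0 1 0 0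
  have hF2 : Z2 k ≤ Fr p E := fun y hy => by
    obtain ⟨d, d1, d2, d3, -, d5, -⟩ := exists_el H 0 0 y.t 0
    have a1 := cm_Z3' a (x := d) ⟨d1, d2⟩
    have a2 : ⁅a, d⁆.t = y.t := by simp [d1, d2, d3, d5, au]
    have a3 := cm_Fr (p := p) (hQ as) (hQ d1)
    generalize ⁅a, d⁆ = c at a1 a2 a3
    refine (mul_mem_cancel_right (inv_mem a3)).1 (hF ?_)
    obtain ⟨c1, c2, c3, c4⟩ := a1
    obtain ⟨y1, y2, y3, y4⟩ := hy
    simp [*]
  have hF4 : V4 k ≤ Fr p E := fun y hy => by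
    obtain ⟨m, hm⟩ := exists_im H one_ne_zero (tr_c hy.2.1)
    obtain ⟨d, d1, d2, -⟩ := exists_el H 0 m 0 0
    have a1 := cm_Q2 (g := a) (x := d) as d1
    have a2 : ⁅a, d⁆.c = y.c := by simpa [d2, au] using hm
    have a3 := cm_Fr (p := p) (hQ as) (hQ d1)
    generalize ⁅a, d⁆ = c at a1 a2 a3
    refine (mul_mem_cancel_right (inv_mem a3)).1 (hF2 ?_)
    obtain ⟨c1, c2, c3⟩ := a1
    obtain ⟨y1, y2, y3⟩ := hy
    simp [*]
  have hF6 : Z3 k ≤ Fr p E := fun y hy => by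
    obtain ⟨d, d1, d2, -⟩ := exists_el H 0 (y.w / x.s) 0 0
    have a1 := cm_U x d
    have a2 : ⁅x, d⁆.w = y.w := by simp [d1, d2]; field_simp
    have a3 := cm_Fr (p := p) hx (hQ d1)
    generalize ⁅x, d⁆ = c at a1 a2 a3
    refine (mul_mem_cancel_right (inv_mem a3)).1 (hF4 ?_)
    obtain ⟨c1, c2⟩ := a1
    obtain ⟨y1, y2⟩ := hy
    simp [*]
  obtain ⟨g, hg, -⟩ := h.exists_notMem hΩ
  exact hg (h.ch0 hΩ fun e _ => hF6 (cm_U g e))

theorem es_le_Q2_of_Z3 (h3 : Z3 k ≤ E) : E ≤ Q2 k := by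
  intro x hx
  by_contra hs
  replace hs : x.s ≠ 0 := hs
  have hZ : Z2 k ≤ E := (Z2_le_V4.trans V4_le_Z3).trans h3
  have hF : Z1 k ≤ Fr p E := Z1_Fr H hZ hx hs
  obtain ⟨δ, hδ, hδ'⟩ := exists_tr_zero H
  obtain ⟨v, hv, vc⟩ : ∃ v ∈ V4 k, v.c = δ :=
    ⟨⟨0, 0, 0, δ, 0, 0, by simp [hδ'], by simp⟩, ⟨rfl, rfl, rfl⟩, rfl⟩
  have hvE := h3 (V4_le_Z3 hv)
  refine es_not_iv H h h3 hx hs ?_
  by_cases hl : ∀ e ∈ E, star x.s * e.s = star e.s * x.s
  · have hc : ¬Nat.card E ≤ q ^ 7 := fun hc => by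
      choose b b1 b2 b3 using fun m : k => exists_el H 0 m 0 0
      choose e he eu using fun m : k => es_small H h hF (fun b _ e _ => h3 (cm_U b e))
        (fun hle => hδ (vc ▸ (hle hvE).2)) hc (g := b m) fun e _ => h3 (cm_U _ e)
      have hi : Function.Injective fun a : k × Z3 k => (⟨e a.1 * a.2, mul_mem (he _) (h3 a.2.2)⟩ : E) :=
        fun a a' e1 => by
          have e2 : e a.1 * a.2 = e a'.1 * a'.2 := congrArg Subtype.val e1
          have e3 : a.1 = a'.1 := by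
            simpa [eu, b2, a.2.2.2, a'.2.2.2] using congrArg U5.u e2
          rw [e3] at e2
          exact Prod.ext e3 (Subtype.ext (mul_left_cancel e2))
      have h4 := (Nat.card_le_card_of_injective _ hi).trans hc
      rw [Nat.card_prod, card_k H, card_Z3 H, ← pow_add] at h4
      exact absurd ((Nat.pow_le_pow_iff_right (two_le_q H p)).1 h4) (by omega)
    have i1 : Iv (⊤ : Subgroup (MulAut E)) (V4 k : Set (U5 k)) :=
      ((Iv.top _).few q).congr fun y => ⟨fun hy => ⟨h3 (V4_le_Z3 hy), ?_⟩, fun ⟨hy, h4⟩ => ?_⟩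
    · exact ((Iv.top _).cent i1).congr fun e => ⟨fun he => ⟨he.1, fun c hc =>
        cm_symm (cm_V4_Q2 hc he.2)⟩, fun he => ⟨he.1, s_zero H fun c hc => he.2 c (Z2_le_V4 hc)⟩⟩
    · choose b b1 b2 using fun m : k => exists_el H m 0 0 0
      rw [← card_line H hs]
      refine (Set.ncard_le_ncard (t := Set.range fun m : {m : k // star x.s * m = star m * x.s} =>
        ⁅y, b m⁆) ?_).trans ?_
      · rintro _ ⟨e, he, rfl⟩
        refine ⟨⟨e.s, hl e he⟩, ?_⟩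
        obtain ⟨y1, y2, y3⟩ := hy
        ext <;> simp [*]
      · rw [← Set.image_univ]
        exact (Set.ncard_image_le).trans (Set.ncard_univ _).le
    · by_contra hy4
      let C : Subgroup (U5 k) := centralizer {y}
      have b1 : C.relIndex E ≤ q := by
        refine (relIndex_le_card C E (T := {z | ∃ e ∈ E, z = ⁅y, e⁆})
          (fun e => ⟨⁅y, (e : U5 k)⁆, e, e.2, rfl⟩) fun e e' e1 => ?_).trans h4
        have e2 : ⁅y, (e : U5 k)⁆ = ⁅y, (e' : U5 k)⁆ := congrArg Subtype.val e1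
        rw [mem_centralizer_singleton_iff]
        calc (e : U5 k)⁻¹ * e' * y = y * (y⁻¹ * (e : U5 k)⁻¹ * ⁅y, (e' : U5 k)⁆⁻¹ * y * e') := by
              rw [commutatorElement_def]; group
          _ = y * ((e : U5 k)⁻¹ * e') := by rw [← e2, commutatorElement_def]; group
      have b2 : (Q2 k).relIndex (E ⊓ C) ≤ q := relIndex_line H hs fun e he => hl e he.1
      have b3 : Nat.card (E ⊓ C ⊓ Q2 k : Subgroup (U5 k)) ≤ q ^ 5 :=
        card_cent_le H hy4 inf_le_right fun e he =>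
          commutatorElement_eq_one_iff_mul_comm.2 (mem_centralizer_singleton_iff.1 he.1.2).symm
      refine hc ?_
      rw [card_eq_relIndex_mul C, card_eq_relIndex_mul (Q2 k) (E ⊓ C)]
      exact (Nat.mul_le_mul b1 (Nat.mul_le_mul b2 b3)).trans (le_of_eq (by ring))
  push Not at hl
  obtain ⟨x', hx', hl⟩ := hl
  have i1 : Iv (⊤ : Subgroup (MulAut E)) (Z1 k : Set (U5 k)) :=
    ((Iv.top _).cent (Iv.top _)).congr fun c => ⟨fun hc => ⟨h.Z1_le H hc, fun e _ => cm_Z1 hc e⟩,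
      fun ⟨hc, h4⟩ => by
        obtain ⟨cs, cu, cw⟩ := uw_zero H (s_zero H fun e he => h4 e (hZ he)) fun e he =>
          h4 e (h3 (D5_le_Z3 he))
        have cc : c.c = 0 := by simpa [cs, cu, cw, hs] using congrArg U5.t (h4 x hx)
        have a : ∀ y ∈ E, star y.s * c.t = star c.t * y.s := fun y hy => by
          have := congrArg U5.z (h4 y hy)
          simp [cs, cu, cw, cc] at this
          linear_combination -this
        exact ⟨cs, cu, cw, cc, eq_zero_of_lines hl (a x hx) (a x' hx')⟩⟩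
  have iY := (Iv.top (⊤ : Subgroup (MulAut E))).cmm (Iv.top _) i1
  have iC := (Iv.top (⊤ : Subgroup (MulAut E))).cent iY
  have hY : ∀ y : U5 k, (∀ e ∈ E, ⁅y, e⁆ ∈ Z1 k) → y ∈ Z3 k := fun y hy => by
    obtain ⟨d, d1, d2, d3, -, d5, -⟩ := exists_el H 0 0 1 0
    exact ⟨by simpa [hv.1, hv.2.1, hv.2.2, vc, hδ] using (hy v hvE).2.2.2.2,
      by simpa [d1, d2, d3, d5] using (hy d (h3 ⟨d1, d2⟩)).2.2.2.2⟩
  have hC : ∀ c : U5 k, (∀ y ∈ {c : U5 k | c ∈ (E : Set (U5 k)) ∧ ∀ e ∈ (E : Set (U5 k)),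
      ⁅c, e⁆ ∈ (Z1 k : Set (U5 k))}, ⁅c, y⁆ = 1) → c.s = 0 := fun c hc =>
    s_zero H fun e he => hc e ⟨hZ he, fun e' _ => cm_Z2 he e'⟩
  by_cases hY2 : ∀ y ∈ E, (∀ e ∈ E, ⁅y, e⁆ ∈ Z1 k) → y ∈ Z2 k
  · exact iC.congr fun c => ⟨fun hc => ⟨hc.1, fun y hy => cm_symm (cm_Z2_Q2 (hY2 y hy.1 hy.2) hc.2)⟩,
      fun hc => ⟨hc.1, hC c hc.2⟩⟩
  push Not at hY2
  obtain ⟨y, hy, hy1, hy2⟩ := hY2
  obtain ⟨ys, yu⟩ := hY y hy1
  have yw : y.w ≠ 0 := fun yw =>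
    hy2 ⟨ys, yu, yw, by simpa [ys, yu, yw, hs] using (hy1 x hx).2.2.2.2⟩
  have h0 : ∀ e ∈ E, e.s = 0 → e ∈ Z3 k := fun e he es =>
    ⟨es, by simpa [ys, yu, yw, es] using (hy1 e he).2.2.2.2⟩
  refine ((Iv.top _).cent (iC.img (Iv.top _) _ Iv.wd_cm)).congr fun e => ⟨fun he => ⟨he.1, ?_⟩,
    fun he => ⟨he.1, ?_⟩⟩
  · rintro _ ⟨c, hc, e', he', rfl⟩
    exact cm_symm (cm_Z2_Q2 (cm_Z3 (h0 c hc.1 (hC c hc.2)) e') he.2)
  · have a : ∀ x ∈ E, star x.s * (δ * e.s) = star (δ * e.s) * x.s := fun x hx => by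
      have := congrArg U5.z (he.2 _ ⟨v, ⟨hvE, fun y hy => cm_V4_Q2 hv (hY y hy.2).1⟩, x, hx, rfl⟩)
      rw [U5.cm_z] at this
      simp [hv.1, hv.2.1, hv.2.2, vc, hδ'] at this ⊢
      linear_combination -this
    exact (mul_eq_zero.1 (eq_zero_of_lines hl (a x hx) (a x' hx'))).resolve_left hδ

end Cfsg.Agent.UF
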